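import Mathlib
import Cfsg.Agent.OddHalf.LongSL.Abs

/-!
# Long root `SL₂` subgroups: normality in the centralizer of their involution (helper808, S5173)

* `normal_of_rgd` : in a group with a root group datum, for `j ∈ T` and a root `a`: if every root group `X x`,
  `x ≠ ± a`, has `C_{X x}(j)` commuting with `J = ⟨C_{X a}(j), C_{X (-a)}(j)⟩`, and `± a` are the only roots isolated
  among those with `C_{X x}(j) ≠ 1`, then `J` is normal in `C(j)`.
-/

set_option autoImplicit false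
set_option linter.unusedSectionVars false

namespace Cfsg.Agent.H808.D4

open CoxeterSystem Cfsg.Agent.ChevalleyStructure.CoxeterGeom Cfsg.Agent.Tits.Roots Cfsg.Agent.Tits.Core
  Cfsg.Agent.Tits.Exchange Cfsg.Agent.Nodes.Reps Cfsg.Agent.Nodes.BNOf Cfsg.Agent.Nodes.StabComb
  Cfsg.Agent.Nodes.Bruhat Cfsg.Agent.Nodes.OppDec Cfsg.Agent.Nodes.LeviDec Cfsg.Agent.OddHalf.LongSL

variable {I W Y : Type*} [Fintype I] [DecidableEq I] [Group W] [Group Y] {M : CoxeterMatrix I}
  {cs : CoxeterSystem M W} {A : I → I → ℤ} {h : IsCartan M A} {p : ℕ} {T : Subgroup Y} {n : I → Y}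
  {X : (I → ℤ) → Subgroup Y}

/-- **The normality of `J`.** -/
theorem normal_of_rgd (R : RGD cs h p T n X) [Finite W] {j : Y} (hj : j ∈ T) {a : I → ℤ} (ha : IsRoot cs h a)
    (hx : ∀ x, IsRoot cs h x → x ≠ a → x ≠ -a → ∀ u ∈ ZX X j x, ∀ v ∈ JX X j a, u * v = v * u)
    (hG : GG cs h T X = ⊤) (ha0 : ZX X j a ≠ ⊥)
    (hI : ∀ x, IsRoot cs h x → ZX X j x ≠ ⊥ → x ≠ a → x ≠ -a → ¬ IsRoot cs h (x + a))
    (hE : ∀ b, IsRoot cs h b → b ≠ a → b ≠ -a → ZX X j b ≠ ⊥ →
      ∃ x, IsRoot cs h x ∧ ZX X j x ≠ ⊥ ∧ x ≠ b ∧ x ≠ -b ∧ IsRoot cs h (x + b)) :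
    ∀ g ∈ Subgroup.centralizer ({j} : Set Y), ∀ x ∈ JX X j a, g * x * g⁻¹ ∈ JX X j a := by
  have hJC : JX X j a ≤ Subgroup.centralizer ({j} : Set Y) := JX_le_centralizer
  -- the elements of `ZX x` normalise all `cj k J`
  have hnorm : ∀ {w : W} {k : Y}, Rp cs R.nsys w k → k ∈ Subgroup.centralizer ({j} : Set Y) → ∀ x, IsRoot cs h x →
      ZX X j x ≤ Subgroup.normalizer (JX X j (rep cs h w a) : Set Y) := by
    intro w k hk hkj x hxr
    have h1 : ∀ y, IsRoot cs h y → ZX X j y ≤ Subgroup.normalizer (JX X j a : Set Y) := by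
      intro y hy
      by_cases hya : y = a
      · subst hya
        exact le_trans le_sup_left Subgroup.le_normalizer
      by_cases hya' : y = -a
      · subst hya'
        exact le_trans le_sup_right Subgroup.le_normalizer
      · intro u hu
        have h2 : ∀ v ∈ JX X j a, u * v * u⁻¹ = v := fun v hv => by rw [hx y hy hya hya' u hu v hv]; group
        have h3 : ∀ v ∈ JX X j a, u⁻¹ * v * u = v := fun v hv => by
          have h4 := hx y hy hya hya' u hu v hv
          rw [mul_assoc, ← h4]; group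
        refine Subgroup.mem_normalizer_iff.2 fun v => ⟨fun hv => by rw [h2 v hv]; exact hv, fun hv => ?_⟩
        have h5 := h3 _ hv
        have h6 : u⁻¹ * (u * v * u⁻¹) * u = v := by group
        rw [h6] at h5
        rw [h5]; exact hv
    have h2 : Rp cs R.nsys w⁻¹ k⁻¹ := hk.inv
    have h3 := h1 (rep cs h w⁻¹ x) (hxr.act _)
    rw [← cj_ZX R h2 (inv_mem hkj) hxr] at h3
    intro u hu
    rw [← cj_JX R hk hkj ha]
    have h4 := h3 (conj_mem_cj.2 hu)
    rw [mem_normalizer_iff_cj] at h4 ⊢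
    have e : u = k * (k⁻¹ * u * k⁻¹⁻¹) * k⁻¹ := by group
    rw [← cj_mul, show u * k = k * (k⁻¹ * u * k⁻¹⁻¹) by group, cj_mul, h4]
  have hjT : ({j} : Set Y) ⊆ T := by rintro _ rfl; exact hj
  intro g hg
  obtain ⟨u, hu, w, k, hk, hkj, v, hv, rfl⟩ := Cfsg.Agent.Nodes.NormalForm.mem_centralizer R hjT (by rw [hG]; trivial) hg
  have hsup : ∀ {w : W} {k : Y}, Rp cs R.nsys w k → k ∈ Subgroup.centralizer ({j} : Set Y) →
      RGD.Sup (fun x => X x ⊓ Subgroup.centralizer ({j} : Set Y)) (RGD.Pos cs h) ≤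
        Subgroup.normalizer (JX X j (rep cs h w a) : Set Y) := fun hk hkj =>
    RGD.Sup_le fun x hx => hnorm hk hkj x hx.1
  have hv' : v ∈ Subgroup.normalizer (JX X j a : Set Y) := by
    have h1 := hsup (Cfsg.Agent.Nodes.Reps.rp_of_mem (cs := cs) (hN := R.nsys) (one_mem T)) (one_mem _) hv
    rwa [map_one, Module.End.one_apply] at h1
  have hu' := hsup hk hkj hu
  have key : cj (u * k * v) (JX X j a) = JX X j (rep cs h w a) := by
    rw [cj_mul, cj_mul, mem_normalizer_iff_cj.1 hv', cj_JX R hk hkj ha, mem_normalizer_iff_cj.1 hu']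
  have hconj : ∀ x ∈ JX X j a, u * k * v * x * (u * k * v)⁻¹ ∈ JX X j (rep cs h w a) := fun x hx' => by
    rw [← key]; exact conj_mem_cj.2 hx'
  by_cases h1 : rep cs h w a = a
  · rwa [h1] at hconj
  by_cases h2 : rep cs h w a = -a
  · rwa [h2, JX_neg] at hconj
  · exfalso
    have hbot : ∀ {w : W} {k : Y}, Rp cs R.nsys w k → k ∈ Subgroup.centralizer ({j} : Set Y) → ∀ x, IsRoot cs h x →
        ZX X j x ≠ ⊥ → ZX X j (rep cs h w x) ≠ ⊥ := by
      intro w k hk hkj x hxr hne h3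
      apply hne
      rw [← cj_ZX R hk hkj hxr] at h3
      rw [eq_bot_iff]
      intro y hy
      have h4 : k * y * k⁻¹ ∈ cj k (ZX X j x) := conj_mem_cj.2 hy
      rw [h3, Subgroup.mem_bot, mul_inv_eq_one] at h4
      rw [Subgroup.mem_bot]
      exact mul_eq_left.1 h4
    obtain ⟨x, hxr, hx0, hxb, hxb', hxs⟩ := hE _ (ha.act w) h1 h2 (hbot hk hkj a ha ha0)
    have h2' : Rp cs R.nsys w⁻¹ k⁻¹ := hk.inv
    have hx0' := hbot h2' (inv_mem hkj) x hxr hx0
    have hww : ∀ y : I → ℤ, rep cs h w⁻¹ (rep cs h w y) = y := by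
      intro y
      rw [← rep_mul_apply, inv_mul_cancel, map_one, Module.End.one_apply]
    have hww' : ∀ y : I → ℤ, rep cs h w (rep cs h w⁻¹ y) = y := by
      intro y
      rw [← rep_mul_apply, mul_inv_cancel, map_one, Module.End.one_apply]
    refine hI (rep cs h w⁻¹ x) (hxr.act _) hx0' ?_ ?_ ?_
    · intro h3
      apply hxb
      rw [← h3, hww']
    · intro h3
      apply hxb'
      rw [← map_neg, ← h3, hww']
    · have h3 := hxs.act (w⁻¹)
      rwa [map_add, hww] at h3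

end Cfsg.Agent.H808.D4
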