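import Cfsg.Agent.H751.Big.SameFus
import Cfsg.Agent.S0261
import Cfsg.Agent.CharactersDeep.QuatSylow
import Cfsg.Agent.ChevalleyStructure.SL2Hom

/-!
# The configuration `D₄` in the exceptional groups of odd characteristic (helper808, S5173)

* `D4Conf G` : three commuting good quaternion subgroups `Q i` with different involutions `z i` and an involution `t`,
  conjugate to `z 0`, normalising but not centralising every `Q i`, all inside a 2-subgroup;
* `conf_of_homs` : from three commuting `SL(2,F)`, normal in the centralizers of their involutions, and `t` acting on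
  each of them as `diag(1,-1)`;
* `conf_of_sub` : the same for a subgroup of an ambient group.
-/

set_option autoImplicit false
set_option linter.unusedSectionVars false

namespace Cfsg.Agent.H808.D4

open Subgroup Cfsg.Agent.ChevalleyStructure

/-- The configuration. -/
def D4Conf (G : Type*) [Group G] : Prop :=
  ∃ (Q : Fin 3 → Subgroup G) (z : Fin 3 → G) (t : G) (P : Subgroup G), IsPGroup 2 P ∧ (∀ i, Q i ≤ P) ∧ t ∈ P ∧
    (∀ i, Cfsg.Agent.H751.Big.Good (Q i) (z i)) ∧ (∀ i j, i ≠ j → ∀ x ∈ Q i, ∀ y ∈ Q j, x * y = y * x) ∧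
    (∀ i j, i ≠ j → z i ≠ z j) ∧ IsConj t (z 0) ∧ (∀ i, ∀ x ∈ Q i, t * x * t⁻¹ ∈ Q i) ∧
    ∀ i, ∃ x ∈ Q i, t * x ≠ x * t

section SLTwo

variable {F : Type*} [Field F]

/-- conjugation by `diag(1,-1)` of matrices -/
def dlM (m : Matrix (Fin 2) (Fin 2) F) : Matrix (Fin 2) (Fin 2) F := !![m 0 0, -m 0 1; -m 1 0, m 1 1]

theorem dlM_mul (m n : Matrix (Fin 2) (Fin 2) F) : dlM (m * n) = dlM m * dlM n := by
  ext i j
  fin_cases i <;> fin_cases j <;> simp [dlM, Matrix.mul_apply, Fin.sum_univ_two] <;> ring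

/-- conjugation by `diag(1,-1)` -/
def dl : Matrix.SpecialLinearGroup (Fin 2) F →* Matrix.SpecialLinearGroup (Fin 2) F where
  toFun g := ⟨dlM g.1, by
    have := g.2
    rw [Matrix.det_fin_two] at this
    rw [dlM, Matrix.det_fin_two_of]
    linear_combination this⟩
  map_one' := by
    apply Subtype.ext
    show dlM (1 : Matrix (Fin 2) (Fin 2) F) = 1
    ext i j
    fin_cases i <;> fin_cases j <;> simp [dlM]
  map_mul' g h := by
    apply Subtype.ext
    exact dlM_mul g.1 h.1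

theorem coe_dl (g : Matrix.SpecialLinearGroup (Fin 2) F) : (dl g).1 = dlM g.1 := rfl

theorem dl_up (t : F) : dl (SL2Hom.up t) = SL2Hom.up (-t) := by
  apply Subtype.ext
  rw [coe_dl]
  ext i j
  fin_cases i <;> fin_cases j <;> simp [dlM, SL2Hom.up]

theorem dl_lo (t : F) : dl (SL2Hom.lo t) = SL2Hom.lo (-t) := by
  apply Subtype.ext
  rw [coe_dl]
  ext i j
  fin_cases i <;> fin_cases j <;> simp [dlM, SL2Hom.lo]

theorem hom_ext {Y : Type*} [Group Y] {f g : Matrix.SpecialLinearGroup (Fin 2) F →* Y}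
    (hup : ∀ t, f (SL2Hom.up t) = g (SL2Hom.up t)) (hlo : ∀ t, f (SL2Hom.lo t) = g (SL2Hom.lo t))
    (s : Matrix.SpecialLinearGroup (Fin 2) F) : f s = g s := by
  have h1 : s ∈ f.eqLocus g := by
    refine (Subgroup.closure_le _).2 ?_ (SL2Hom.mem_closure_SL2 s)
    rintro x (⟨t, rfl⟩ | ⟨t, rfl⟩)
    · exact hup t
    · exact hlo t
  exact h1

/-- the central elements of `SL(2,F)` -/
theorem central (s : Matrix.SpecialLinearGroup (Fin 2) F) (h : ∀ g, s * g = g * s) : s = 1 ∨ s = -1 := by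
  have h1 : s.1 * !![1, 1; 0, 1] = !![1, 1; 0, 1] * s.1 :=
    congrArg (fun m : Matrix.SpecialLinearGroup (Fin 2) F => m.1) (h (SL2Hom.up 1))
  have h2 : s.1 * !![1, 0; 1, 1] = !![1, 0; 1, 1] * s.1 :=
    congrArg (fun m : Matrix.SpecialLinearGroup (Fin 2) F => m.1) (h (SL2Hom.lo 1))
  have e1 := congrFun (congrFun h1 0) 0
  have e2 := congrFun (congrFun h1 0) 1
  have e3 := congrFun (congrFun h2 0) 0
  simp [Matrix.mul_apply, Fin.sum_univ_two] at e1 e2 e3
  have hdet : s.1 0 0 * s.1 1 1 - s.1 0 1 * s.1 1 0 = 1 := by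
    rw [← Matrix.det_fin_two]; exact s.2
  have e4 : s.1 1 1 = s.1 0 0 := by linear_combination -e2
  rw [e3, zero_mul, sub_zero, e4] at hdet
  rcases mul_self_eq_one_iff.1 hdet with h0 | h0
  · left
    apply Subtype.ext
    ext i j
    fin_cases i <;> fin_cases j <;> simp [h0, e1, e3, e4]
  · right
    apply Subtype.ext
    rw [Matrix.SpecialLinearGroup.coe_neg, Matrix.SpecialLinearGroup.coe_one]
    ext i j
    fin_cases i <;> fin_cases j <;> simp [h0, e1, e3, e4]

theorem neg_one_ne [Fintype F] (hF : Odd (Fintype.card F)) : (-1 : Matrix.SpecialLinearGroup (Fin 2) F) ≠ 1 := by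
  intro h
  have h1 := congrArg (fun g : Matrix.SpecialLinearGroup (Fin 2) F => (g : Matrix (Fin 2) (Fin 2) F) 0 0) h
  simp at h1
  have h3 : ringChar F ≠ 2 := by
    intro h3
    have h4 := FiniteField.even_card_iff_char_two.1 h3
    rw [Nat.odd_iff] at hF
    omega
  apply Ring.two_ne_zero h3
  linear_combination -h1

theorem two_ne [Fintype F] (hF : Odd (Fintype.card F)) : (2 : F) ≠ 0 := by
  have h3 : ringChar F ≠ 2 := by
    intro h3
    have h4 := FiniteField.even_card_iff_char_two.1 h3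
    rw [Nat.odd_iff] at hF
    omega
  exact Ring.two_ne_zero h3

/-- two homomorphisms with conjugate ranges have conjugate involutions -/
theorem conj_neg_one {Y : Type*} [Group Y] {φ ψ : Matrix.SpecialLinearGroup (Fin 2) F →* Y}
    (hφ : Function.Injective φ) (hψ : Function.Injective ψ) (h1 : (-1 : Matrix.SpecialLinearGroup (Fin 2) F) ≠ 1) {n : Y}
    (h2 : ∀ s, ∃ s', n * φ s * n⁻¹ = ψ s') (h3 : ∀ s', ∃ s, n * φ s * n⁻¹ = ψ s') :
    n * φ (-1) * n⁻¹ = ψ (-1) := by
  obtain ⟨c, hc⟩ := h2 (-1)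
  have hcen : ∀ g, c * g = g * c := by
    intro g
    obtain ⟨s, hs⟩ := h3 g
    apply hψ
    rw [map_mul, map_mul, ← hc, ← hs]
    have e : φ (-1) * φ s = φ s * φ (-1) := by rw [← map_mul, ← map_mul, neg_one_mul, mul_neg_one]
    calc n * φ (-1) * n⁻¹ * (n * φ s * n⁻¹) = n * (φ (-1) * φ s) * n⁻¹ := by group
      _ = n * (φ s * φ (-1)) * n⁻¹ := by rw [e]
      _ = n * φ s * n⁻¹ * (n * φ (-1) * n⁻¹) := by group
  rcases central c hcen with h | h
  · exfalso
    rw [h, map_one, mul_inv_eq_one] at hc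
    have h4 : φ (-1) = 1 := by
      have := congrArg (fun x => n⁻¹ * x) hc
      simpa using this
    rw [← map_one φ] at h4
    exact h1 (hφ h4)
  · rw [hc, h]

end SLTwo

section Homs

variable {G : Type*} [Group G] [Finite G] {F : Type*} [Field F] [Fintype F]

/-- **The configuration from three `SL(2,F)`.** -/
theorem conf_of_homs (hF : Odd (Fintype.card F)) (φ : Fin 3 → Matrix.SpecialLinearGroup (Fin 2) F →* G)
    (hφ : ∀ i, Function.Injective (φ i)) (t : G) (ht : t * t = 1)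
    (hn : ∀ i, ∀ c : G, c * φ i (-1) = φ i (-1) * c → ∀ s, ∃ s', c * φ i s * c⁻¹ = φ i s')
    (hc : ∀ i j, i ≠ j → ∀ s s', φ i s * φ j s' = φ j s' * φ i s) (hz : ∀ i j, i ≠ j → φ i (-1) ≠ φ j (-1))
    (hconj : IsConj t (φ 0 (-1))) (hup : ∀ i c, t * φ i (SL2Hom.up c) * t⁻¹ = φ i (SL2Hom.up (-c)))
    (hlo : ∀ i c, t * φ i (SL2Hom.lo c) * t⁻¹ = φ i (SL2Hom.lo (-c))) : D4Conf G := by
  classical
  have hp : Fact (Nat.Prime 2) := ⟨Nat.prime_two⟩
  have h2 : (2 : F) ≠ 0 := two_ne hF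
  have hact : ∀ i s, t * φ i s * t⁻¹ = φ i (dl s) := by
    intro i s
    have := hom_ext (f := (MulAut.conj t).toMonoidHom.comp (φ i)) (g := (φ i).comp dl) (fun c => by
      show t * φ i _ * t⁻¹ = φ i (dl _)
      rw [hup, dl_up]) (fun c => by
      show t * φ i _ * t⁻¹ = φ i (dl _)
      rw [hlo, dl_lo]) s
    exact this
  -- the group generated
  let P0 : Subgroup G := closure ({t} ∪ ⋃ i, ((φ i).range : Set G))
  have htP : t ∈ P0 := subset_closure (Or.inl rfl)
  have hJP : ∀ i, (φ i).range ≤ P0 := fun i x hx => subset_closure (Or.inr (Set.mem_iUnion.2 ⟨i, hx⟩))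
  have hnorm : ∀ i, P0 ≤ normalizer (((φ i).range : Subgroup G) : Set G) := by
    intro i
    rw [closure_le]
    have key : ∀ y : G, (∀ x ∈ (φ i).range, y * x * y⁻¹ ∈ (φ i).range) →
        y ∈ normalizer (((φ i).range : Subgroup G) : Set G) := by
      intro y hy
      have h1 : (φ i).range.map (MulAut.conj y).toMonoidHom = (φ i).range := by
        apply eq_of_le_of_card_ge
        · rintro _ ⟨x, hx, rfl⟩
          exact hy x hx
        · rw [card_map_of_injective (MulAut.conj y).injective]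
      rw [mem_normalizer_iff]
      intro x
      refine ⟨hy x, fun hx => ?_⟩
      rw [← h1] at hx
      obtain ⟨w, hw, hwx⟩ := hx
      have hwx' : y * w * y⁻¹ = y * x * y⁻¹ := hwx
      have : w = x := by
        calc w = y⁻¹ * (y * w * y⁻¹) * y := by group
          _ = y⁻¹ * (y * x * y⁻¹) * y := by rw [hwx']
          _ = x := by group
      rwa [← this]
    rintro y (hy | hy)
    · rw [Set.mem_singleton_iff] at hy
      subst hy
      apply key
      rintro _ ⟨s, rfl⟩
      exact ⟨dl s, (hact i s).symm⟩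
    · obtain ⟨j, s', rfl⟩ := Set.mem_iUnion.1 hy
      apply key
      rintro _ ⟨s, rfl⟩
      by_cases hij : j = i
      · subst hij
        exact ⟨s' * s * s'⁻¹, by rw [map_mul, map_mul, map_inv]⟩
      · rw [hc j i hij, mul_inv_cancel_right]
        exact ⟨s, rfl⟩
  -- the Sylow subgroup
  have hz2 : IsPGroup 2 ((zpowers t).subgroupOf P0) := by
    apply IsPGroup.comap_subtype
    rintro ⟨x, k, rfl⟩
    refine ⟨1, ?_⟩
    apply Subtype.ext
    show ((t : G) ^ k) ^ 2 ^ 1 = 1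
    rw [pow_one, ← zpow_natCast, ← zpow_mul, mul_comm, zpow_mul, zpow_natCast, pow_two, ht, one_zpow]
  obtain ⟨R, hR⟩ := hz2.exists_le_sylow
  let P : Subgroup G := (R : Subgroup P0).map P0.subtype
  have hPp : IsPGroup 2 P := R.isPGroup'.map _
  have htR : t ∈ P := ⟨⟨t, htP⟩, hR (mem_zpowers t), rfl⟩
  have hPsub : P.subgroupOf P0 = (R : Subgroup P0) := by
    show ((R : Subgroup P0).map P0.subtype).comap P0.subtype = _
    rw [comap_map_eq_self_of_injective P0.subtype_injective]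
  have hodd : ∀ i, ¬ 2 ∣ (P ⊓ (φ i).range).relIndex (φ i).range := by
    intro i
    have hN : ((φ i).range.subgroupOf P0).Normal := by
      rw [normal_subgroupOf_iff_le_normalizer (hJP i)]
      exact hnorm i
    have h3 := CharactersDeep.QuatSylow.not_dvd_relIndex_of_normal R ((φ i).range.subgroupOf P0)
    rw [← hPsub, relIndex_subgroupOf (hJP i)] at h3
    rwa [inf_relIndex_right]
  -- the quaternion groups
  have hquat : ∀ i, ∃ k : ℕ, 1 ≤ k ∧ Nonempty (((P ⊓ (φ i).range : Subgroup G).comap (φ i) : Subgroup _) ≃*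
      QuaternionGroup (2 ^ k)) := by
    intro i
    have h3 : IsPGroup 2 ((P ⊓ (φ i).range : Subgroup G).comap (φ i)) :=
      (hPp.to_le inf_le_left).comap_of_injective _ (hφ i)
    have h4 : ¬ 2 ∣ ((P ⊓ (φ i).range : Subgroup G).comap (φ i)).index := by
      rw [index_comap]
      exact hodd i
    exact S0261.result hF (h3.toSylow h4)
  have hequiv : ∀ i, Nonempty ((P ⊓ (φ i).range : Subgroup G) ≃*
      ((P ⊓ (φ i).range : Subgroup G).comap (φ i) : Subgroup _)) := by
    intro i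
    have h3 : ((P ⊓ (φ i).range : Subgroup G).comap (φ i)).map (φ i) = P ⊓ (φ i).range :=
      map_comap_eq_self inf_le_right
    exact ⟨((MulEquiv.subgroupCongr h3.symm).trans
      (((P ⊓ (φ i).range : Subgroup G).comap (φ i)).equivMapOfInjective _ (hφ i)).symm)⟩
  have hzsq : ∀ i, φ i (-1) * φ i (-1) = 1 := fun i => by
    rw [← map_mul, neg_one_mul, _root_.neg_neg, map_one]
  have hz1 : ∀ i, φ i (-1) ≠ 1 := by
    intro i h
    rw [← map_one (φ i)] at h
    exact neg_one_ne hF (hφ i h)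
  have hzc : ∀ i s, φ i s * φ i (-1) = φ i (-1) * φ i s := fun i s => by
    rw [← map_mul, ← map_mul, neg_one_mul, mul_neg_one]
  -- the involution belongs to the Sylow subgroup
  have hzQ : ∀ i, φ i (-1) ∈ P ⊓ (φ i).range := by
    intro i
    refine ⟨?_, -1, rfl⟩
    -- it is a central element of the normal subgroup, so in every Sylow subgroup
    have hzP0 : φ i (-1) ∈ P0 := hJP i ⟨-1, rfl⟩
    have hcen : ∀ y ∈ P0, y * φ i (-1) * y⁻¹ = φ i (-1) := by
      intro y hy
      have hny := mem_normalizer_iff.1 (hnorm i hy)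
      refine conj_neg_one (hφ i) (hφ i) (neg_one_ne hF) (fun s => ?_) (fun s' => ?_)
      · obtain ⟨s', hs'⟩ := (hny (φ i s)).1 ⟨s, rfl⟩
        exact ⟨s', hs'.symm⟩
      · have h3 := (hny (y⁻¹ * φ i s' * y)).2 (by
          have e : y * (y⁻¹ * φ i s' * y) * y⁻¹ = φ i s' := by group
          rw [e]
          exact ⟨s', rfl⟩)
        obtain ⟨s, hs⟩ := h3
        refine ⟨s, ?_⟩
        rw [hs]
        group
    have hN : (zpowers (⟨φ i (-1), hzP0⟩ : P0)).Normal := by
      constructor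
      rintro _ ⟨k, rfl⟩ y
      refine ⟨k, ?_⟩
      show (⟨φ i (-1), hzP0⟩ : P0) ^ k = y * (⟨φ i (-1), hzP0⟩ : P0) ^ k * y⁻¹
      rw [← conj_zpow]
      congr 1
      exact Subtype.ext (hcen y y.2).symm
    have hp2 : IsPGroup 2 (zpowers (⟨φ i (-1), hzP0⟩ : P0)) := by
      rintro ⟨x, k, rfl⟩
      refine ⟨1, ?_⟩
      apply Subtype.ext
      show ((⟨φ i (-1), hzP0⟩ : P0) ^ k) ^ 2 ^ 1 = 1
      rw [pow_one, ← zpow_natCast, ← zpow_mul, mul_comm, zpow_mul, zpow_natCast, pow_two]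
      have : (⟨φ i (-1), hzP0⟩ : P0) * ⟨φ i (-1), hzP0⟩ = 1 := Subtype.ext (hzsq i)
      rw [this, one_zpow]
    have h3 : zpowers (⟨φ i (-1), hzP0⟩ : P0) ≤ (R : Subgroup P0) := by
      obtain ⟨R', hR'⟩ := hp2.exists_le_sylow
      obtain ⟨g, hg⟩ := MulAction.exists_smul_eq P0 R' R
      rw [← hg]
      intro x hx
      have h4 : g⁻¹ * x * g ∈ zpowers (⟨φ i (-1), hzP0⟩ : P0) := by
        have := hN.conj_mem x hx g⁻¹
        rwa [inv_inv] at this
      refine ⟨g⁻¹ * x * g, hR' h4, ?_⟩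
      show g * (g⁻¹ * x * g) * g⁻¹ = x
      group
    exact ⟨⟨φ i (-1), hzP0⟩, h3 (mem_zpowers _), rfl⟩
  refine ⟨fun i => P ⊓ (φ i).range, fun i => φ i (-1), t, P, hPp, fun i => inf_le_left, htR, ?_, ?_, hz, hconj, ?_, ?_⟩
  · intro i
    refine Cfsg.Agent.H751.Big.good_of_normal (K := (φ i).range) ?_ ?_ inf_le_right (hodd i) ?_ (hzQ i) ?_
    · rintro _ ⟨s, rfl⟩
      rw [mem_centralizer_singleton_iff]
      exact hzc i s
    · rintro c hc' _ ⟨s, rfl⟩
      obtain ⟨s', hs'⟩ := hn i c (mem_centralizer_singleton_iff.1 hc') s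
      exact ⟨s', hs'.symm⟩
    · obtain ⟨k, hk, ⟨e⟩⟩ := hquat i
      obtain ⟨f⟩ := hequiv i
      obtain ⟨n, rfl⟩ := Nat.exists_eq_succ_of_ne_zero (Nat.one_le_iff_ne_zero.1 hk)
      exact ⟨n, ⟨f.trans e⟩⟩
    · rw [orderOf_eq_prime_iff, pow_two]
      exact ⟨hzsq i, hz1 i⟩
  · rintro i j hij _ ⟨-, s, rfl⟩ _ ⟨-, s', rfl⟩
    exact hc i j hij s s'
  · rintro i _ ⟨hsP, s, rfl⟩
    exact ⟨P.mul_mem (P.mul_mem htR hsP) (P.inv_mem htR), ⟨dl s, (hact i s).symm⟩⟩
  · intro i
    by_contra hcon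
    push Not at hcon
    obtain ⟨k, hk, ⟨e⟩⟩ := hquat i
    have hdiag : ∀ s ∈ (P ⊓ (φ i).range : Subgroup G).comap (φ i), s.1 0 1 = 0 ∧ s.1 1 0 = 0 := by
      intro s hs
      have h3 := hact i s
      rw [hcon _ hs, mul_inv_cancel_right] at h3
      have h4 := hφ i h3
      have h5 : s.1 = dlM s.1 := congrArg (fun m : Matrix.SpecialLinearGroup (Fin 2) F => m.1) h4
      have h6 := congrFun (congrFun h5 0) 1
      have h7 := congrFun (congrFun h5 1) 0
      have e6 : dlM s.1 0 1 = -s.1 0 1 := rfl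
      have e7 : dlM s.1 1 0 = -s.1 1 0 := rfl
      rw [e6] at h6
      rw [e7] at h7
      constructor
      · have : 2 * s.1 0 1 = 0 := by linear_combination h6
        exact (mul_eq_zero.1 this).resolve_left h2
      · have : 2 * s.1 1 0 = 0 := by linear_combination h7
        exact (mul_eq_zero.1 this).resolve_left h2
    have hab : ∀ x y : QuaternionGroup (2 ^ k), x * y = y * x := by
      intro x y
      apply e.symm.injective
      rw [map_mul, map_mul]
      obtain ⟨hx1, hx2⟩ := hdiag _ (e.symm x).2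
      obtain ⟨hy1, hy2⟩ := hdiag _ (e.symm y).2
      apply Subtype.ext
      apply Subtype.ext
      rw [Subgroup.coe_mul, Subgroup.coe_mul, Matrix.SpecialLinearGroup.coe_mul, Matrix.SpecialLinearGroup.coe_mul]
      ext a b
      fin_cases a <;> fin_cases b <;> simp [Matrix.mul_apply, Fin.sum_univ_two, hx1, hx2, hy1, hy2, mul_comm]
    have h3 := hab (QuaternionGroup.a 1) (QuaternionGroup.xa 0)
    rw [QuaternionGroup.a_mul_xa, QuaternionGroup.xa_mul_a, QuaternionGroup.xa.injEq, zero_sub, zero_add] at h3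
    have h4 : ((2 : ℕ) : ZMod (2 * 2 ^ k)) = 0 := by
      push_cast
      linear_combination -h3
    rw [ZMod.natCast_eq_zero_iff] at h4
    have h5 := Nat.le_of_dvd (by norm_num) h4
    have h6 : 2 ^ 1 ≤ 2 ^ k := Nat.pow_le_pow_right (by norm_num) hk
    omega

end Homs

section Sub

variable {Y : Type*} [Group Y] {F : Type*} [Field F] [Fintype F]

/-- The same for a subgroup of an ambient group. -/
theorem conf_of_sub (hF : Odd (Fintype.card F)) (G : Subgroup Y) [Finite G]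
    (φ : Fin 3 → Matrix.SpecialLinearGroup (Fin 2) F →* Y)
    (hφ : ∀ i, Function.Injective (φ i)) (hG : ∀ i s, φ i s ∈ G) (t : Y) (htG : t ∈ G) (ht : t * t = 1)
    (hn : ∀ i, ∀ c ∈ G, c * φ i (-1) = φ i (-1) * c → ∀ s, ∃ s', c * φ i s * c⁻¹ = φ i s')
    (hc : ∀ i j, i ≠ j → ∀ s s', φ i s * φ j s' = φ j s' * φ i s) (hz : ∀ i j, i ≠ j → φ i (-1) ≠ φ j (-1))
    (m : Y) (hm : m ∈ G) (hconj : m * t * m⁻¹ = φ 0 (-1))
    (hup : ∀ i c, t * φ i (SL2Hom.up c) * t⁻¹ = φ i (SL2Hom.up (-c)))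
    (hlo : ∀ i c, t * φ i (SL2Hom.lo c) * t⁻¹ = φ i (SL2Hom.lo (-c))) : D4Conf ↥G := by
  refine conf_of_homs hF (fun i => (φ i).codRestrict G (hG i)) (fun i a b hab => hφ i (congrArg Subtype.val hab))
    ⟨t, htG⟩ (Subtype.ext ht) ?_ ?_ ?_ ?_ ?_ ?_
  · intro i c hc' s
    obtain ⟨s', hs'⟩ := hn i c c.2 (congrArg Subtype.val hc') s
    exact ⟨s', Subtype.ext hs'⟩
  · intro i j hij s s'
    exact Subtype.ext (hc i j hij s s')
  · intro i j hij h
    exact hz i j hij (congrArg Subtype.val h)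
  · rw [isConj_iff]
    exact ⟨⟨m, hm⟩, Subtype.ext hconj⟩
  · intro i c
    exact Subtype.ext (hup i c)
  · intro i c
    exact Subtype.ext (hlo i c)

end Sub

end Cfsg.Agent.H808.D4
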