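import Mathlib
import Cfsg.Agent.H808.D4.Conf
import Cfsg.Agent.H808.D4.Abs
import Cfsg.Agent.OddHalf.LongSL.Chev

/-!
# The configuration `D₄` in the Chevalley groups over fields of odd order (helper808, S5173)

* `Big G φ` : `φ : SL(2,K) → Y` injective with values in `G`, its range normal in the centralizer of `φ(-1)` in `G`;
* `big_simple` : the long root `SL(2,K)` of a fundamental root;
* `conf_of_tab` : `D4Conf (D.group K)` from tables.
-/

set_option autoImplicit false
set_option linter.unusedSectionVars false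

namespace Cfsg.Agent.H808.D4

open Cfsg.Agent.ChevalleyStructure

section Big

variable {Y : Type*} [Group Y] {K : Type*} [Field K]

/-- the range of `φ` is normal in the centralizer of `φ(-1)` in `G` -/
structure Big (G : Subgroup Y) (φ : Matrix.SpecialLinearGroup (Fin 2) K →* Y) : Prop where
  inj : Function.Injective φ
  mem : ∀ s, φ s ∈ G
  norm : ∀ c ∈ G, c * φ (-1) = φ (-1) * c → ∀ s, ∃ s', c * φ s * c⁻¹ = φ s'

/-- `n` conjugates the range of `φ` to the range of `ψ` -/
structure Cj (φ ψ : Matrix.SpecialLinearGroup (Fin 2) K →* Y) (n : Y) : Prop where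
  fwd : ∀ s, ∃ s', n * φ s * n⁻¹ = ψ s'
  bwd : ∀ s', ∃ s, n * φ s * n⁻¹ = ψ s'

variable {G : Subgroup Y} {φ ψ χ : Matrix.SpecialLinearGroup (Fin 2) K →* Y} {n m : Y}

theorem Cj.one (φ : Matrix.SpecialLinearGroup (Fin 2) K →* Y) : Cj φ φ 1 :=
  ⟨fun s => ⟨s, by rw [one_mul, inv_one, mul_one]⟩, fun s => ⟨s, by rw [one_mul, inv_one, mul_one]⟩⟩

theorem Cj.symm (h : Cj φ ψ n) : Cj ψ φ n⁻¹ := by
  constructor
  · intro s
    obtain ⟨s', hs'⟩ := h.bwd s
    exact ⟨s', by rw [← hs']; group⟩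
  · intro s
    obtain ⟨s', hs'⟩ := h.fwd s
    exact ⟨s', by rw [← hs']; group⟩

theorem Cj.trans (h : Cj φ ψ n) (h' : Cj ψ χ m) : Cj φ χ (m * n) := by
  constructor
  · intro s
    obtain ⟨s', hs'⟩ := h.fwd s
    obtain ⟨s2, hs2⟩ := h'.fwd s'
    exact ⟨s2, by rw [← hs2, ← hs']; group⟩
  · intro s
    obtain ⟨s', hs'⟩ := h'.bwd s
    obtain ⟨s2, hs2⟩ := h.bwd s'
    exact ⟨s2, by rw [← hs', ← hs2]; group⟩

/-- injectivity is transported -/
theorem Cj.inj [Finite K] (h : Cj φ ψ n) (hφ : Function.Injective φ) : Function.Injective ψ := by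
  classical
  have hfin : Finite (Matrix.SpecialLinearGroup (Fin 2) K) := inferInstance
  choose f hf using h.bwd
  -- `f` is injective on the classes of `ψ`; use the surjectivity of `s ↦ s'`
  choose g hg using h.fwd
  have hg1 : Function.Injective g := by
    intro a b hab
    apply hφ
    have h1 := hg a
    rw [hab, ← hg b] at h1
    exact mul_left_cancel (mul_right_cancel h1)
  have hg2 : Function.Surjective g := Finite.surjective_of_injective hg1
  intro a b hab
  obtain ⟨a', rfl⟩ := hg2 a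
  obtain ⟨b', rfl⟩ := hg2 b
  rw [← hg, ← hg] at hab
  rw [hφ (mul_left_cancel (mul_right_cancel hab))]

theorem Cj.neg_one [Fintype K] (hK : Odd (Fintype.card K)) (h : Cj φ ψ n) (hφ : Function.Injective φ) :
    n * φ (-1) * n⁻¹ = ψ (-1) :=
  conj_neg_one hφ (h.inj hφ) (neg_one_ne hK) h.fwd h.bwd

/-- the property is transported -/
theorem Big.conj [Fintype K] (hK : Odd (Fintype.card K)) (h : Big G φ) (hψ : ∀ s, ψ s ∈ G) (hn : n ∈ G)
    (hc : Cj φ ψ n) : Big G ψ := by
  have h1 := hc.neg_one hK h.inj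
  refine ⟨hc.inj h.inj, hψ, ?_⟩
  intro c hcG hcc s
  obtain ⟨s1, hs1⟩ := hc.bwd s
  obtain ⟨s2, hs2⟩ := h.norm (n⁻¹ * c * n) (mul_mem (mul_mem (inv_mem hn) hcG) hn) (by
    rw [← h1] at hcc
    calc n⁻¹ * c * n * φ (-1) = n⁻¹ * (c * (n * φ (-1) * n⁻¹)) * n := by group
      _ = n⁻¹ * (n * φ (-1) * n⁻¹ * c) * n := by rw [hcc]
      _ = φ (-1) * (n⁻¹ * c * n) := by group) s1
  obtain ⟨s3, hs3⟩ := hc.fwd s2
  refine ⟨s3, ?_⟩
  rw [← hs3, ← hs2, ← hs1]
  group

/-- conjugate and commuting subgroups have different involutions -/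
theorem Big.ne [Fintype K] (hK : Odd (Fintype.card K)) (h : Big G φ) (hn : n ∈ G) (hc : Cj φ ψ n)
    (hcomm : ∀ s s', φ s * ψ s' = ψ s' * φ s) : φ (-1) ≠ ψ (-1) := by
  intro he
  have h1 := hc.neg_one hK h.inj
  have h2 : ∀ s', ∃ s, ψ s' = φ s := by
    intro s'
    obtain ⟨s, hs⟩ := hc.bwd s'
    obtain ⟨s2, hs2⟩ := h.norm n hn (by
      rw [← he] at h1
      calc n * φ (-1) = n * φ (-1) * n⁻¹ * n := by group
        _ = φ (-1) * n := by rw [h1]) s
    exact ⟨s2, by rw [← hs, hs2]⟩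
  have h3 : ∀ s', ∃ s, φ s' = ψ s := by
    intro s'
    obtain ⟨s, hs⟩ := h.norm n⁻¹ (inv_mem hn) (by
      rw [← he] at h1
      have h4 : n * φ (-1) = φ (-1) * n := by
        calc n * φ (-1) = n * φ (-1) * n⁻¹ * n := by group
          _ = φ (-1) * n := by rw [h1]
      rw [eq_comm, eq_inv_mul_iff_mul_eq, ← mul_assoc, h4, mul_inv_cancel_right]) s'
    obtain ⟨s2, hs2⟩ := hc.fwd s
    refine ⟨s2, ?_⟩
    rw [← hs2, ← hs]
    group
  have h4 : SL2Hom.up (1 : K) * SL2Hom.lo 1 = SL2Hom.lo 1 * SL2Hom.up 1 := by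
    apply h.inj
    rw [map_mul, map_mul]
    obtain ⟨s, hs⟩ := h3 (SL2Hom.lo 1)
    rw [hs]
    exact hcomm _ _
  have h5 : (!![1, 1; 0, 1] * !![1, 0; 1, 1] : Matrix (Fin 2) (Fin 2) K) = !![1, 0; 1, 1] * !![1, 1; 0, 1] :=
    congrArg (fun m : Matrix.SpecialLinearGroup (Fin 2) K => m.1) h4
  have h6 := congrFun (congrFun h5 0) 0
  simp [Matrix.mul_apply, Fin.sum_univ_two] at h6

end Big

open Cfsg Cfsg.Lie Cfsg.Lie.ChevalleyDatum
open Cfsg.Agent.ChevalleyStructure.Elts Cfsg.Agent.ChevalleyStructure.NPerm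
open Cfsg.Agent.ChevalleyStructure.CoxeterGeom Cfsg.Agent.ChevalleyStructure.CoxeterGeomTypes Cfsg.Agent.Tits.Roots
open Cfsg.Agent.Nodes.Reps Cfsg.Agent.Nodes.BNOf Cfsg.Agent.Nodes.RGDChev Cfsg.Agent.Nodes.Bruhat
open Cfsg.Agent.OddHalf.LongSL Cfsg.Agent.OddHalf.LongSL.Chev

/-- every root orthogonal to `p_i` has a neighbour orthogonal to `p_i` -/
def chkE (D : ChevalleyDatum) (i : ℕ) : Bool :=
  (List.range D.nroots).all fun b => D.cartan i b == 1 || D.cartan i b == -1 || b == D.simple i ||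
    b == D.neg (D.simple i) ||
    (List.range D.nroots).any fun x => D.cartan i x == 0 && x != b && x != D.neg b &&
      (D.commTerms b x).any fun v => v.2.2.1 == 1 && v.2.2.2 == 1

/-- the Cartan integers with `p_i` are `0, ± 1` except for `± p_i` -/
def chkC (D : ChevalleyDatum) (i : ℕ) : Bool :=
  (List.range D.nroots).all fun s => D.cartan i s == 0 || D.cartan i s == 1 || D.cartan i s == -1 ||
    s == D.simple i || (s == D.neg (D.simple i) && D.cartan i s == -2)

section Main

variable {D : ChevalleyDatum} {l : ℕ} {M : CoxeterMatrix (Fin l)} (hp : IsType D l M) (K : Type) [Field K]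

/-- the homomorphism `SL₂(K) → GL` of the root `r` -/
noncomputable def Phi (r : ℕ) (hr : r < D.nroots) : Matrix.SpecialLinearGroup (Fin 2) K →* GL D.Idx K :=
  SL2Hom.phi (SL2All.good_of_mem D hp.inList r hr) K

theorem Phi_up (r : ℕ) (hr : r < D.nroots) (t : K) : Phi hp K r hr (SL2Hom.up t) = xG hp.inList r t :=
  Units.ext (SL2Hom.phi_upper _ _ t rfl)

theorem Phi_lo (r : ℕ) (hr : r < D.nroots) (t : K) : Phi hp K r hr (SL2Hom.lo t) = xG hp.inList (D.neg r) t :=
  Units.ext (SL2Hom.phi_lower _ _ t rfl)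

theorem Phi_mem (r : ℕ) (hr : r < D.nroots) (s : Matrix.SpecialLinearGroup (Fin 2) K) :
    Phi hp K r hr s ∈ D.group K := by
  have h1 : s ∈ (D.group K).comap (Phi hp K r hr) := by
    refine (Subgroup.closure_le _).2 ?_ (SL2Hom.mem_closure_SL2 s)
    rintro x (⟨t, rfl⟩ | ⟨t, rfl⟩)
    · show Phi hp K r hr _ ∈ D.group K
      rw [Phi_up]
      exact xG_mem_group hp.inList _ _
    · show Phi hp K r hr _ ∈ D.group K
      rw [Phi_lo]
      exact xG_mem_group hp.inList _ _
  exact h1

theorem range_Phi (r : ℕ) (hr : r < D.nroots) :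
    (Phi hp K r hr).range = D.rootSubgroup K r ⊔ D.rootSubgroup K (D.neg r) := SL2Hom.range_phi _

theorem Phi_simple_neg_one (i : Fin l) :
    Phi hp K (D.simple i) (simple_lt hp.inList (lt_rank hp i)) (-1) = hG hp.inList (D.simple i) (-1) :=
  phi_neg_one hp K i

/-- **The long root `SL(2,K)` of a fundamental root.** -/
theorem big_simple [Fintype K] (hK : Odd (Fintype.card K)) (i : Fin l) (h1 : chk D i = true)
    (h2 : chkOdd D i = true) (h3 : chkE D i = true) (h4 : chkC D i = true) :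
    Big (D.group K) (Phi hp K (D.simple i) (simple_lt hp.inList (lt_rank hp i))) := by
  classical
  obtain ⟨p, hpc⟩ := CharP.exists K
  have hpp : p.Prime := (CharP.char_is_prime_or_zero K p).resolve_right (CharP.char_ne_zero_of_finite K p)
  have : Fact p.Prime := ⟨hpp⟩
  have h2K : (2 : K) ≠ 0 := two_ne_of_odd hK
  let cs : CoxeterSystem M M.Group := M.toCoxeterSystem
  have hfin : Finite M.Group := finite_W hp cs
  have hr := simple_lt hp.inList (lt_rank hp i)
  have hnr := neg_lt hp.inList hr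
  have hinj : Function.Injective (phi hp K i) := by
    rw [injective_iff_map_eq_one]
    intro g hg
    have hg' : SL2Hom.phi (SL2All.good_of_mem D hp.inList (D.simple i) hr) K g = 1 := congrArg Subtype.val hg
    rcases phi_eq_one _ hg' with h | h
    · exact h
    · exfalso
      rw [h] at hg
      have h3 : hG hp.inList (D.simple i) (-1 : K) = 1 := by rw [← phi_neg_one hp K i, hg]; rfl
      obtain ⟨s, hs, hs'⟩ := List.any_eq_true.1 h2
      rw [List.mem_range] at hs
      have h4 := conj_hG hp K i hs (-1) (neg_ne_zero.2 one_ne_zero) 1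
      rw [h3, one_mul, inv_one, mul_one, beq_iff_eq.1 hs', zpow_one, mul_one] at h4
      have h5 := xG_injective hp.inList hs h4
      apply h2K
      linear_combination h5
  have hjT : phi hp K i (-1) ∈ (D.diagonalSubgroup K).subgroupOf (D.group K) := by
    rw [Subgroup.mem_subgroupOf, phi_neg_one]
    exact hG_mem_diagonal hp.inList hr (neg_ne_zero.2 one_ne_zero)
  have hrange : (phi hp K i).range = JX (fun x => (XV D l K x).subgroupOf (D.group K)) (phi hp K i (-1)) (sr i) := by
    refine range_eq_JX _ rfl ?_ ?_ ?_ ?_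
    · intro t
      rw [Subgroup.mem_subgroupOf, phi_up, XV_sr hp i]
      exact xG_mem_rootSubgroup _ _ _
    · intro t
      rw [Subgroup.mem_subgroupOf, phi_lo, XV_neg_sr hp i]
      exact xG_mem_rootSubgroup _ _ _
    · intro u hu _
      rw [Subgroup.mem_subgroupOf, XV_sr hp i, mem_rootSubgroup_iff hp.inList] at hu
      obtain ⟨t, ht⟩ := hu
      exact ⟨t, Subtype.ext (by rw [phi_up, ht])⟩
    · intro u hu _
      rw [Subgroup.mem_subgroupOf, XV_neg_sr hp i, mem_rootSubgroup_iff hp.inList] at hu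
      obtain ⟨t, ht⟩ := hu
      exact ⟨t, Subtype.ext (by rw [phi_lo, ht])⟩
  -- the roots with odd Cartan integer
  have hodd : ∀ s, s < D.nroots → D.cartan i s = 1 ∨ D.cartan i s = -1 →
      ZX (fun x => (XV D l K x).subgroupOf (D.group K)) (phi hp K i (-1)) (vec D l s) = ⊥ := by
    intro s hs hc
    rw [eq_bot_iff]
    intro u hu
    obtain ⟨hu1, hu2⟩ := mem_ZX.1 hu
    rw [Subgroup.mem_subgroupOf, XV_vec hp K hs, mem_rootSubgroup_iff hp.inList] at hu1
    obtain ⟨t, ht⟩ := hu1
    have h5 : (phi hp K i (-1) * u * (phi hp K i (-1))⁻¹ : ↥(D.group K)) = u := by rw [hu2, mul_inv_cancel_right]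
    have h6 := congrArg Subtype.val h5
    rw [Subgroup.coe_mul, Subgroup.coe_mul, Subgroup.coe_inv, phi_neg_one, ht,
      conj_hG hp K i hs (-1) (neg_ne_zero.2 one_ne_zero)] at h6
    have h7 := xG_injective hp.inList hs h6
    have h8 : (-1 : K) ^ D.cartan i s = -1 := by
      rcases hc with h8 | h8
      · rw [h8, zpow_one]
      · rw [h8, zpow_neg, zpow_one, inv_neg, inv_one]
    rw [h8] at h7
    have h9 : 2 * t = 0 := by linear_combination -h7
    have h10 : t = 0 := (mul_eq_zero.1 h9).resolve_left h2K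
    rw [Subgroup.mem_bot]
    apply Subtype.ext
    rw [ht, h10, xG_zero]
    rfl
  have heven : ∀ s, s < D.nroots → Even (D.cartan i s) →
      ZX (fun x => (XV D l K x).subgroupOf (D.group K)) (phi hp K i (-1)) (vec D l s) ≠ ⊥ := by
    intro s hs hc hbot
    have h5 : (⟨xG hp.inList s 1, xG_mem_group hp.inList s 1⟩ : ↥(D.group K)) ∈
        ZX (fun x => (XV D l K x).subgroupOf (D.group K)) (phi hp K i (-1)) (vec D l s) := by
      rw [mem_ZX]
      refine ⟨?_, ?_⟩
      · rw [Subgroup.mem_subgroupOf, XV_vec hp K hs]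
        exact xG_mem_rootSubgroup hp.inList s 1
      · apply Subtype.ext
        rw [Subgroup.coe_mul, Subgroup.coe_mul, phi_neg_one]
        have h6 := conj_hG hp K i hs (-1) (neg_ne_zero.2 one_ne_zero) 1
        rw [hc.neg_one_zpow, mul_one] at h6
        exact mul_inv_eq_iff_eq_mul.1 h6
    rw [hbot, Subgroup.mem_bot] at h5
    have h6 : xG hp.inList s (1 : K) = 1 := congrArg Subtype.val h5
    have h7 := xG_injective hp.inList hs (h6.trans (xG_zero hp.inList s).symm)
    exact one_ne_zero h7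
  have hca : D.cartan i (D.simple i) = 2 := by
    rw [← cartanOf_def D l i i, hp.isCartan.diag]
  have hcases : ∀ s, s < D.nroots → s ≠ D.simple i → s ≠ D.neg (D.simple i) →
      D.cartan i s = 0 ∨ D.cartan i s = 1 ∨ D.cartan i s = -1 := by
    intro s hs hs1 hs2
    have h5 := List.all_eq_true.1 h4 s (List.mem_range.2 hs)
    simp only [Bool.or_eq_true, beq_iff_eq, Bool.and_eq_true, hs1, hs2, false_and, or_false] at h5
    tauto
  have hne : ∀ x, x ≠ sr i → x ≠ -sr i → ∀ s, s < D.nroots → vec D l s = x →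
      s ≠ D.simple i ∧ s ≠ D.neg (D.simple i) := by
    rintro x hx1 hx2 s hs rfl
    constructor
    · rintro rfl
      exact hx1 (vec_simple hp i)
    · rintro rfl
      exact hx2 (by rw [vec_neg hp hr, vec_simple hp i])
  have hzero : ∀ x, x ≠ sr i → x ≠ -sr i →
      ZX (fun x => (XV D l K x).subgroupOf (D.group K)) (phi hp K i (-1)) x ≠ ⊥ →
      ∀ s, s < D.nroots → vec D l s = x → D.cartan i s = 0 := by
    intro x hx1 hx2 hx s hs hsx
    obtain ⟨hs1, hs2⟩ := hne x hx1 hx2 s hs hsx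
    rcases hcases s hs hs1 hs2 with h5 | h5
    · exact h5
    · exfalso
      apply hx
      rw [← hsx]
      exact hodd s hs h5
  -- the main statement
  have key := normal_of_rgd (rgd (K := K) hp cs p) hjT (isRoot_sr cs hp.isCartan i) ?_
    (KFacts.RgdRigid.GG_eq_top (G1_eq_top hp cs)) ?_ ?_ ?_
  · refine ⟨fun a b hab => hinj (Subtype.ext hab), Phi_mem hp K _ hr, ?_⟩
    intro c hc hcc s
    have h5 := key ⟨c, hc⟩ (by
      rw [Subgroup.mem_centralizer_singleton_iff]
      exact Subtype.ext hcc) (phi hp K i s) (by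
      rw [← hrange]
      exact ⟨s, rfl⟩)
    rw [← hrange] at h5
    obtain ⟨s', hs'⟩ := h5
    exact ⟨s', (congrArg Subtype.val hs').symm⟩
  · intro x hx hx1 hx2 u hu v hv
    obtain ⟨s, hs, rfl⟩ := (isRoot_iff hp cs x).1 hx
    obtain ⟨hs1, hs2⟩ := hne _ hx1 hx2 s hs rfl
    have h3 := List.all_eq_true.1 h1 s (List.mem_range.2 hs)
    simp only [Bool.or_eq_true, beq_iff_eq, Bool.and_eq_true, List.isEmpty_iff, hs1, hs2, false_or] at h3
    have hcase : (D.cartan i s = 1 ∨ D.cartan i s = -1) ∨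
        (D.commTerms (D.simple i) s = [] ∧ D.commTerms (D.neg (D.simple i)) s = []) := h3
    rcases hcase with h3 | ⟨h3, h4⟩
    · rw [hodd s hs h3, Subgroup.mem_bot] at hu
      rw [hu, one_mul, mul_one]
    · have hu' := (mem_ZX.1 hu).1
      rw [Subgroup.mem_subgroupOf, XV_vec hp K hs, mem_rootSubgroup_iff hp.inList] at hu'
      obtain ⟨t, ht⟩ := hu'
      rw [← hrange] at hv
      refine commute_range _ ?_ ?_ v hv
      · intro c
        apply Subtype.ext
        rw [Subgroup.coe_mul, Subgroup.coe_mul, phi_up, ht]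
        exact commute_xG hp K hr hs hs1 hs2 h3 c t
      · intro c
        apply Subtype.ext
        rw [Subgroup.coe_mul, Subgroup.coe_mul, phi_lo, ht]
        exact commute_xG hp K hnr hs hs2 (by rw [RootVec.neg_neg hp.checked hr]; exact hs1) h4 c t
  · rw [← vec_simple hp i]
    exact heven _ hr (by rw [hca]; exact even_two)
  · intro x hx hx0 hx1 hx2 hxs
    obtain ⟨s, hs, hsx⟩ := (isRoot_iff hp cs x).1 hx
    have hs0 := hzero x hx1 hx2 hx0 s hs hsx
    obtain ⟨v, hv, hvx⟩ := (isRoot_iff hp cs _).1 hxs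
    have h5 : D.cartan i v = 2 := by
      rw [← pairing_vec hp i hv, hvx, ← hsx, ← vec_simple hp i]
      have h6 : pairing (cartanOf D l) i (vec D l s + vec D l (D.simple i)) =
          pairing (cartanOf D l) i (vec D l s) + pairing (cartanOf D l) i (vec D l (D.simple i)) := by
        unfold pairing
        rw [← Finset.sum_add_distrib]
        refine Finset.sum_congr rfl fun j _ => ?_
        rw [Pi.add_apply]
        ring
      rw [h6, pairing_vec hp i hs, pairing_vec hp i hr, hs0, hca, zero_add]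
    have h6 := List.all_eq_true.1 h4 v (List.mem_range.2 hv)
    simp only [Bool.or_eq_true, beq_iff_eq, Bool.and_eq_true, h5] at h6
    have h7 : v = D.simple i := by
      rcases h6 with (((h6 | h6) | h6) | h6) | h6
      · norm_num at h6
      · norm_num at h6
      · norm_num at h6
      · exact h6
      · norm_num at h6
    rw [h7, vec_simple hp i] at hvx
    have h8 : x = 0 := by
      have := hvx.symm
      rwa [add_eq_right] at this
    exact hx.ne_zero h8
  · intro b hb hb1 hb2 hb0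
    obtain ⟨s, hs, hsb⟩ := (isRoot_iff hp cs b).1 hb
    obtain ⟨hs1, hs2⟩ := hne b hb1 hb2 s hs hsb
    have hs0 := hzero b hb1 hb2 hb0 s hs hsb
    have h5 := List.all_eq_true.1 h3 s (List.mem_range.2 hs)
    simp only [Bool.or_eq_true, beq_iff_eq, hs0, hs1, hs2, or_false] at h5
    have h6 : ((List.range D.nroots).any fun x => D.cartan i x == 0 && x != s && x != D.neg s &&
      (D.commTerms s x).any fun v => v.2.2.1 == 1 && v.2.2.2 == 1) = true := by
      rcases h5 with (h5 | h5) | h5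
      · norm_num at h5
      · norm_num at h5
      · exact h5
    obtain ⟨x, hx, hx'⟩ := List.any_eq_true.1 h6
    rw [List.mem_range] at hx
    simp only [Bool.and_eq_true, beq_iff_eq, bne_iff_ne] at hx'
    obtain ⟨⟨⟨hx1, hx2⟩, hx3⟩, hx4⟩ := hx'
    obtain ⟨v, hv, hv'⟩ := List.any_eq_true.1 hx4
    simp only [Bool.and_eq_true, beq_iff_eq] at hv'
    obtain ⟨u, C, i', j'⟩ := v
    simp only at hv'
    obtain ⟨rfl, rfl⟩ := hv'
    obtain ⟨hu1, -, -, -, -, huv⟩ := RootVec.commTerms_rt hp.checked hv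
    refine ⟨vec D l x, isRoot_vec hp cs hx, heven x hx (by rw [hx1]; exact ⟨0, by norm_num⟩), ?_, ?_, ?_⟩
    · intro h7
      exact hx2 (vec_inj hp hx hs (h7.trans hsb.symm))
    · intro h7
      rw [← hsb, ← vec_neg hp hs] at h7
      exact hx3 (vec_inj hp hx (neg_lt hp.inList hs) h7)
    · rw [isRoot_iff hp cs]
      refine ⟨u, hu1, ?_⟩
      rw [← hsb]
      funext k
      rw [vec_apply, huv, Pi.add_apply, vec_apply, vec_apply]
      push_cast
      ring

/-! ### The configuration -/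

theorem Cj.of_range {Y : Type*} [Group Y] {φ ψ : Matrix.SpecialLinearGroup (Fin 2) K →* Y} {n : Y}
    (h : cj n φ.range = ψ.range) : Cj φ ψ n := by
  constructor
  · intro s
    have h1 : n * φ s * n⁻¹ ∈ cj n φ.range := conj_mem_cj.2 ⟨s, rfl⟩
    rw [h] at h1
    obtain ⟨s', hs'⟩ := h1
    exact ⟨s', hs'.symm⟩
  · intro s'
    have h1 : ψ s' ∈ cj n φ.range := by
      rw [h]
      exact ⟨s', rfl⟩
    rw [mem_cj] at h1
    obtain ⟨s, hs⟩ := h1
    refine ⟨s, ?_⟩
    rw [hs]
    group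

include hp in
theorem neg_reflectRoot (i : Fin l) {r : ℕ} (hr : r < D.nroots) :
    D.neg (D.reflectRoot i r) = D.reflectRoot i (D.neg r) := by
  let cs : CoxeterSystem M M.Group := M.toCoxeterSystem
  have h1 := reflectRoot_lt hp.inList (lt_rank hp i) hr
  have h2 := neg_lt hp.inList hr
  apply vec_inj hp (neg_lt hp.inList h1) (reflectRoot_lt hp.inList (lt_rank hp i) h2)
  rw [vec_neg hp h1, ← rep_vec hp cs i hr, ← rep_vec hp cs i h2, vec_neg hp hr, map_neg]

theorem cj_refl (i : Fin l) {r : ℕ} (hr : r < D.nroots) (hr' : D.reflectRoot i r < D.nroots) :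
    Cj (Phi hp K r hr) (Phi hp K (D.reflectRoot i r) hr') (nn hp K i) := by
  apply Cj.of_range
  have h1 := cj_nn hp (K := K) i hr
  have h2 := cj_nn hp (K := K) i (neg_lt hp.inList hr)
  rw [XV_vec hp K hr, XV_vec hp K hr'] at h1
  rw [XV_vec hp K (neg_lt hp.inList hr), ← neg_reflectRoot hp i hr, XV_vec hp K (neg_lt hp.inList hr')] at h2
  rw [range_Phi, range_Phi, cj_sup, h1, h2]

/-- the image of a root under a product of reflections -/
def refl (D : ChevalleyDatum) {l : ℕ} (ω : List (Fin l)) (r : ℕ) : ℕ := ω.foldr (fun i r => D.reflectRoot i r) r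

theorem exists_cj' (G : Subgroup (GL D.Idx K)) (ω : List (Fin l)) (hω : ∀ i ∈ ω, nn hp K i ∈ G) {r : ℕ}
    (hr : r < D.nroots) : ∃ (hr' : refl D ω r < D.nroots) (n : GL D.Idx K), n ∈ G ∧
      Cj (Phi hp K r hr) (Phi hp K (refl D ω r) hr') n := by
  induction ω with
  | nil => exact ⟨hr, 1, one_mem _, Cj.one _⟩
  | cons i ω ih =>
    obtain ⟨hr', n, hn, hc⟩ := ih fun j hj => hω j (List.mem_cons_of_mem _ hj)
    exact ⟨reflectRoot_lt hp.inList (lt_rank hp i) hr', nn hp K i * n, mul_mem (hω i List.mem_cons_self) hn,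
      hc.trans (cj_refl hp K i hr' _)⟩

theorem exists_cj (ω : List (Fin l)) {r : ℕ} (hr : r < D.nroots) :
    ∃ (hr' : refl D ω r < D.nroots) (n : GL D.Idx K), n ∈ D.group K ∧
      Cj (Phi hp K r hr) (Phi hp K (refl D ω r) hr') n :=
  exists_cj' hp K (D.group K) ω (fun i _ => nn_mem_group hp i) hr

/-- the root groups of `± r`, `± s` commute -/
def chkComm (D : ChevalleyDatum) (r s : ℕ) : Bool :=
  s != r && s != D.neg r && (D.commTerms r s).isEmpty && (D.commTerms (D.neg r) s).isEmpty &&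
    (D.commTerms r (D.neg s)).isEmpty && (D.commTerms (D.neg r) (D.neg s)).isEmpty

theorem commute_Phi {r s : ℕ} (hr : r < D.nroots) (hs : s < D.nroots) (h : chkComm D r s = true)
    (g g' : Matrix.SpecialLinearGroup (Fin 2) K) :
    Phi hp K r hr g * Phi hp K s hs g' = Phi hp K s hs g' * Phi hp K r hr g := by
  simp only [chkComm, Bool.and_eq_true, bne_iff_ne, List.isEmpty_iff] at h
  obtain ⟨⟨⟨⟨⟨h1, h2⟩, h3⟩, h4⟩, h5⟩, h6⟩ := h
  have hnr := neg_lt hp.inList hr
  have hns := neg_lt hp.inList hs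
  have hnn : D.neg (D.neg r) = r := RootVec.neg_neg hp.checked hr
  have hns' : D.neg (D.neg s) = s := RootVec.neg_neg hp.checked hs
  have key : ∀ u ∈ (Phi hp K s hs).range, ∀ v ∈ (Phi hp K r hr).range, u * v = v * u := by
    intro u hu v hv
    have hu2 : ∀ t, v * Phi hp K s hs (SL2Hom.up t) = Phi hp K s hs (SL2Hom.up t) * v := by
      intro t
      refine (commute_range (Phi hp K r hr) (u := Phi hp K s hs (SL2Hom.up t)) ?_ ?_ v hv).symm
      · intro c
        rw [Phi_up, Phi_up]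
        exact commute_xG hp K hr hs h1 h2 h3 c t
      · intro c
        rw [Phi_up, Phi_lo]
        exact commute_xG hp K hnr hs h2 (by rw [hnn]; exact h1) h4 c t
    have hu3 : ∀ t, v * Phi hp K s hs (SL2Hom.lo t) = Phi hp K s hs (SL2Hom.lo t) * v := by
      intro t
      refine (commute_range (Phi hp K r hr) (u := Phi hp K s hs (SL2Hom.lo t)) ?_ ?_ v hv).symm
      · intro c
        rw [Phi_lo, Phi_up]
        exact commute_xG hp K hr hns (fun h => h2 (by rw [← h, hns'])) (fun h => h1 (by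
          rw [← hns', h, hnn])) h5 c t
      · intro c
        rw [Phi_lo, Phi_lo]
        exact commute_xG hp K hnr hns (fun h => h1 (by rw [← hns', h, hnn])) (fun h => h2 (by
          rw [← hns', h, hnn])) h6 c t
    exact (commute_range (Phi hp K s hs) hu2 hu3 u hu).symm
  exact (key _ ⟨g', rfl⟩ _ ⟨g, rfl⟩).symm

theorem odd_zpow {c : ℤ} (h : c = 1 ∨ c = -1) : (-1 : K) ^ c = -1 := by
  rcases h with h | h
  · rw [h, zpow_one]
  · rw [h, zpow_neg, zpow_one, inv_neg, inv_one]

include hp in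
/-- **The configuration from the tables.** -/
theorem conf_of_tab [Fintype K] (hK : Odd (Fintype.card K)) (i₀ it : Fin l) (h1 : chk D i₀ = true)
    (h2 : chkOdd D i₀ = true) (h3 : chkE D i₀ = true) (h4 : chkC D i₀ = true) (ω : Fin 3 → List (Fin l))
    (b : Fin 3 → ℕ) (hb : ∀ k, refl D (ω k) (D.simple i₀) = b k) (hb0 : b 0 = D.simple i₀) (ωt : List (Fin l))
    (ht : refl D ωt (D.simple it) = D.simple i₀) (hcomm : ∀ k k', k ≠ k' → chkComm D (b k) (b k') = true)
    (hcart : ∀ k, (D.cartan it (b k) = 1 ∨ D.cartan it (b k) = -1) ∧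
      (D.cartan it (D.neg (b k)) = 1 ∨ D.cartan it (D.neg (b k)) = -1)) : D4Conf ↥(D.group K) := by
  classical
  have hr0 := simple_lt hp.inList (lt_rank hp i₀)
  have hrt := simple_lt hp.inList (lt_rank hp it)
  have hbig0 := big_simple hp K hK i₀ h1 h2 h3 h4
  have hex : ∀ k, ∃ (hr : b k < D.nroots) (n : GL D.Idx K), n ∈ D.group K ∧
      Cj (Phi hp K (D.simple i₀) hr0) (Phi hp K (b k) hr) n := by
    intro k
    obtain ⟨hr', n, hn, hc⟩ := exists_cj hp K (ω k) hr0
    have e := hb k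
    generalize refl D (ω k) (D.simple i₀) = r' at e hr' hc
    subst e
    exact ⟨hr', n, hn, hc⟩
  choose hr n hn hcj using hex
  have hbig : ∀ k, Big (D.group K) (Phi hp K (b k) (hr k)) := fun k =>
    hbig0.conj hK (Phi_mem hp K _ _) (hn k) (hcj k)
  obtain ⟨m, hm, hmt⟩ : ∃ m ∈ D.group K, m * Phi hp K (D.simple it) hrt (-1) * m⁻¹ =
      Phi hp K (D.simple i₀) hr0 (-1) := by
    obtain ⟨hr', m, hm, hc⟩ := exists_cj hp K ωt hrt
    generalize refl D ωt (D.simple it) = r' at ht hr' hc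
    subst ht
    have h5 := hc.symm.neg_one hK hbig0.inj
    exact ⟨m, hm, by rw [← h5]; group⟩
  have hfin : Finite (GL D.Idx K) := inferInstance
  refine conf_of_sub hK (D.group K) (fun k => Phi hp K (b k) (hr k)) (fun k => (hbig k).inj)
    (fun k => (hbig k).mem) (Phi hp K (D.simple it) hrt (-1)) (Phi_mem hp K _ _ _) ?_ (fun k => (hbig k).norm)
    (fun k k' hkk s s' => commute_Phi hp K (hr k) (hr k') (hcomm k k' hkk) s s') ?_ m hm ?_ ?_ ?_
  · rw [← map_mul, neg_one_mul, _root_.neg_neg, map_one]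
  · intro k k' hkk
    exact (hbig k).ne hK (mul_mem (hn k') (inv_mem (hn k))) ((hcj k).symm.trans (hcj k'))
      (fun s s' => commute_Phi hp K (hr k) (hr k') (hcomm k k' hkk) s s')
  · rw [hmt]
    congr 1
    simp only [hb0]
  · intro k c
    rw [Phi_up, Phi_up, Phi_simple_neg_one, conj_hG hp K it (hr k) (-1) (neg_ne_zero.2 one_ne_zero),
      odd_zpow K (hcart k).1, neg_one_mul]
  · intro k c
    rw [Phi_lo, Phi_lo, Phi_simple_neg_one, conj_hG hp K it (neg_lt hp.inList (hr k)) (-1)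
      (neg_ne_zero.2 one_ne_zero), odd_zpow K (hcart k).2, neg_one_mul]

end Main

end Cfsg.Agent.H808.D4
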