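import Mathlib
import Cfsg.Agent.H808.D4.Chev

/-!
# The configuration `D₄` in `F₄(q)`, `E₆(q)`, `E₇(q)`, `E₈(q)`, `q` odd (helper808, S5173)
-/

set_option autoImplicit false

namespace Cfsg.Agent.H808.D4

open Cfsg Cfsg.Lie Cfsg.Lie.ChevalleyDatum
open Cfsg.Agent.Nodes.RGDChev Cfsg.Agent.OddHalf.LongSL.Chev

/-- the words of the three roots -/
def wd {l : ℕ} (ω₁ ω₂ : List (Fin l)) : Fin 3 → List (Fin l) := ![[], ω₁, ω₂]

/-- all tables -/
def tab (D : ChevalleyDatum) {l : ℕ} (i₀ it : Fin l) (ω₁ ω₂ : List (Fin l)) : Bool :=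
  (refl D [it, i₀] (D.simple it) == D.simple i₀) &&
    ((List.finRange 3).all fun k => (List.finRange 3).all fun k' => k == k' ||
      chkComm D (refl D (wd ω₁ ω₂ k) (D.simple i₀)) (refl D (wd ω₁ ω₂ k') (D.simple i₀))) &&
    ((List.finRange 3).all fun k => (D.cartan it (refl D (wd ω₁ ω₂ k) (D.simple i₀)) == -1) &&
      (D.cartan it (D.neg (refl D (wd ω₁ ω₂ k) (D.simple i₀))) == 1))

theorem conf_of_tab' {D : ChevalleyDatum} {l : ℕ} {M : CoxeterMatrix (Fin l)} (hp : IsType D l M) (K : Type) [Field K]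
    [Fintype K] (hK : Odd (Fintype.card K)) (i₀ it : Fin l) (ω₁ ω₂ : List (Fin l))
    (h1 : (chk D i₀ && chkOdd D i₀) = true) (h2 : (chkE D i₀ && chkC D i₀) = true) (h3 : tab D i₀ it ω₁ ω₂ = true) :
    D4Conf ↥(D.group K) := by
  rw [Bool.and_eq_true] at h1 h2
  simp only [tab, Bool.and_eq_true, beq_iff_eq, List.all_eq_true, List.mem_finRange, forall_const, Bool.or_eq_true] at h3
  obtain ⟨⟨h3, h4⟩, h5⟩ := h3
  refine conf_of_tab hp K hK i₀ it h1.1 h1.2 h2.1 h2.2 (wd ω₁ ω₂) (fun k => refl D (wd ω₁ ω₂ k) (D.simple i₀))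
    (fun k => rfl) rfl [it, i₀] h3 ?_ ?_
  · intro k k' hkk
    exact (h4 k k').resolve_left hkk
  · intro k
    exact ⟨Or.inr (h5 k).1, Or.inl (h5 k).2⟩

theorem chk_F4 : (chk chevF4 2 && chkOdd chevF4 2) = true := by decide +kernel
theorem chkE_F4 : (chkE chevF4 2 && chkC chevF4 2) = true := by decide +kernel
theorem tab_F4 : tab chevF4 (l := 4) 2 3 [1] [0, 1] = true := by decide +kernel

theorem chk_E6 : (chk chevE6 3 && chkOdd chevE6 3) = true := by decide +kernel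
theorem chkE_E6 : (chkE chevE6 3 && chkC chevE6 3) = true := by decide +kernel
theorem tab_E6 : tab chevE6 (l := 6) 3 1 [2, 4] [0, 5, 2, 4] = true := by decide +kernel

theorem chk_E7 : (chk chevE7 3 && chkOdd chevE7 3) = true := by decide +kernel
theorem chkE_E7 : (chkE chevE7 3 && chkC chevE7 3) = true := by decide +kernel
theorem tab_E7 : tab chevE7 (l := 7) 3 1 [2, 4] [0, 5, 2, 4] = true := by decide +kernel

theorem chk_E8 : (chk chevE8 3 && chkOdd chevE8 3) = true := by decide +kernel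
theorem chkE_E8 : (chkE chevE8 3 && chkC chevE8 3) = true := by decide +kernel
theorem tab_E8 : tab chevE8 (l := 8) 3 1 [2, 4] [0, 5, 2, 4] = true := by decide +kernel

variable (K : Type) [Field K] [Fintype K]

theorem conf_F4 (hK : Odd (Fintype.card K)) : D4Conf ↥(chevF4.group K) :=
  conf_of_tab' (l := 4) (M := CoxeterMatrix.F₄) (by simp [IsType, typeList]) K hK 2 3 _ _ chk_F4 chkE_F4 tab_F4

theorem conf_E6 (hK : Odd (Fintype.card K)) : D4Conf ↥(chevE6.group K) :=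
  conf_of_tab' (l := 6) (M := CoxeterMatrix.E₆) (by simp [IsType, typeList]) K hK 3 1 _ _ chk_E6 chkE_E6 tab_E6

theorem conf_E7 (hK : Odd (Fintype.card K)) : D4Conf ↥(chevE7.group K) :=
  conf_of_tab' (l := 7) (M := CoxeterMatrix.E₇) (by simp [IsType, typeList]) K hK 3 1 _ _ chk_E7 chkE_E7 tab_E7

theorem conf_E8 (hK : Odd (Fintype.card K)) : D4Conf ↥(chevE8.group K) :=
  conf_of_tab' (l := 8) (M := CoxeterMatrix.E₈) (by simp [IsType, typeList]) K hK 3 1 _ _ chk_E8 chkE_E8 tab_E8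

end Cfsg.Agent.H808.D4
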