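import Mathlib
import Cfsg.Agent.H808.D4.Exc
import Cfsg.Agent.OddHalf.LongSL.Tw
import Cfsg.Agent.H91.E6Fix

/-!
# The configuration `D₄` in `²E₆(q)`, `q` odd (helper808, S5173)
-/

set_option autoImplicit false
set_option linter.unusedSectionVars false

namespace Cfsg.Agent.H808.D4.TwE

open Cfsg Cfsg.Lie Cfsg.Agent.ChevalleyStructure Cfsg.Agent.ChevalleyStructure.Elts
open Cfsg.Agent.OddHalf.LongSL Cfsg.Agent.OddHalf.LongSL.Chev Cfsg.Agent.OddHalf.LongSL.Fold
open Cfsg.Agent.ChevalleyStructure.NPerm Cfsg.Agent.Nodes.RGDTwE6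
open Cfsg.Agent.ChevalleyStructure.TwE6Basic (sg twisted_le_fix)
open Cfsg.Agent.Nodes.RGDChev Cfsg.Agent.Nodes.RGDTwGen

section

variable {K : Type} [Field K] (φ : K →+* K)

/-- `SL₂` of the fixed field -/
noncomputable def psi (r : ℕ) (hr : r < chevE6.nroots) : Matrix.SpecialLinearGroup (Fin 2) (FF φ) →* GL chevE6.Idx K :=
  (Phi hp K r hr).comp (Matrix.SpecialLinearGroup.map (FF φ).subtype)

theorem psi_up (r : ℕ) (hr : r < chevE6.nroots) (t : FF φ) : psi φ r hr (SL2Hom.up t) = xG hp.inList r (t : K) := by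
  show Phi hp K r hr (Matrix.SpecialLinearGroup.map (FF φ).subtype (SL2Hom.up t)) = _
  rw [map_up, Phi_up]

theorem psi_lo (r : ℕ) (hr : r < chevE6.nroots) (t : FF φ) :
    psi φ r hr (SL2Hom.lo t) = xG hp.inList (chevE6.neg r) (t : K) := by
  show Phi hp K r hr (Matrix.SpecialLinearGroup.map (FF φ).subtype (SL2Hom.lo t)) = _
  rw [map_lo, Phi_lo]

theorem map_neg_one : Matrix.SpecialLinearGroup.map (n := Fin 2) (FF φ).subtype (-1) = -1 := by
  apply Subtype.ext
  show (FF φ).subtype.mapMatrix ((-1 : Matrix.SpecialLinearGroup (Fin 2) (FF φ)) : Matrix (Fin 2) (Fin 2) (FF φ)) =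
    ((-1 : Matrix.SpecialLinearGroup (Fin 2) K) : Matrix (Fin 2) (Fin 2) K)
  rw [Matrix.SpecialLinearGroup.coe_neg, Matrix.SpecialLinearGroup.coe_neg, Matrix.SpecialLinearGroup.coe_one,
    Matrix.SpecialLinearGroup.coe_one, map_neg, map_one]

theorem psi_neg_one (r : ℕ) (hr : r < chevE6.nroots) : psi φ r hr (-1) = Phi hp K r hr (-1) := by
  show Phi hp K r hr (Matrix.SpecialLinearGroup.map (FF φ).subtype (-1)) = _
  rw [map_neg_one]

theorem map_injective : Function.Injective (Matrix.SpecialLinearGroup.map (n := Fin 2) (FF φ).subtype) := by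
  intro a b hab
  apply Subtype.ext
  ext i j
  have h1 : (FF φ).subtype.mapMatrix a.1 = (FF φ).subtype.mapMatrix b.1 := congrArg Subtype.val hab
  have h2 := congrFun (congrFun h1 i) j
  exact h2

/-- the fixed elements -/
theorem exists_map {s : Matrix.SpecialLinearGroup (Fin 2) K} (h : Matrix.SpecialLinearGroup.map φ s = s) :
    ∃ s', Matrix.SpecialLinearGroup.map (FF φ).subtype s' = s := by
  have h1 : ∀ i j, s.1 i j ∈ FF φ := by
    intro i j
    have h2 : φ.mapMatrix s.1 = s.1 := congrArg Subtype.val h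
    exact congrFun (congrFun h2 i) j
  let m : Matrix (Fin 2) (Fin 2) (FF φ) := fun i j => ⟨s.1 i j, h1 i j⟩
  have hm : m.det = 1 := by
    apply Subtype.ext
    have h2 : s.1 0 0 * s.1 1 1 - s.1 0 1 * s.1 1 0 = 1 := by
      rw [← Matrix.det_fin_two]; exact s.2
    rw [Matrix.det_fin_two]
    exact h2
  refine ⟨⟨m, hm⟩, ?_⟩
  · apply Subtype.ext
    ext i j
    rfl

theorem map_map_FF (s : Matrix.SpecialLinearGroup (Fin 2) (FF φ)) :
    Matrix.SpecialLinearGroup.map φ (Matrix.SpecialLinearGroup.map (FF φ).subtype s) =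
      Matrix.SpecialLinearGroup.map (FF φ).subtype s := by
  apply Subtype.ext
  ext i j
  exact (s.1 i j).2

/-- the action of `σ` on the root elements of fixed roots -/
theorem sg_xG {r : ℕ} (hr : r < 72) (h : TwistedE6Sigma.rho r = r) (t : K) :
    sg φ (xG hp.inList r t) = xG hp.inList r (φ t) := by
  apply Units.ext
  have h3 := TwistedE6Sigma.sig_xE6 φ (g := Elts.xG hp.inList r t) hr (Elts.coe_xG _ _ _)
  rw [h, TwistedE6Sigma.eps_of_rho_eq r hr h, Int.cast_one, one_mul] at h3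
  exact h3

theorem map_up' (t : K) : Matrix.SpecialLinearGroup.map φ (SL2Hom.up t) = SL2Hom.up (φ t) := by
  apply Subtype.ext
  show φ.mapMatrix (SL2Hom.up t).1 = (SL2Hom.up (φ t)).1
  ext i j
  fin_cases i <;> fin_cases j <;> simp [SL2Hom.up]

theorem map_lo' (t : K) : Matrix.SpecialLinearGroup.map φ (SL2Hom.lo t) = SL2Hom.lo (φ t) := by
  apply Subtype.ext
  show φ.mapMatrix (SL2Hom.lo t).1 = (SL2Hom.lo (φ t)).1
  ext i j
  fin_cases i <;> fin_cases j <;> simp [SL2Hom.lo]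

/-- the action of `σ` on the `SL₂` of a fixed root -/
theorem sg_Phi {r : ℕ} (hr : r < chevE6.nroots) (h : TwistedE6Sigma.rho r = r)
    (h' : TwistedE6Sigma.rho (chevE6.neg r) = chevE6.neg r) (s : Matrix.SpecialLinearGroup (Fin 2) K) :
    sg φ (Phi hp K r hr s) = Phi hp K r hr (Matrix.SpecialLinearGroup.map φ s) := by
  have hn := neg_lt hp.inList hr
  exact hom_ext (f := (sg φ).comp (Phi hp K r hr))
    (g := (Phi hp K r hr).comp (Matrix.SpecialLinearGroup.map φ)) (fun t => by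
      show sg φ (Phi hp K r hr _) = Phi hp K r hr (Matrix.SpecialLinearGroup.map φ _)
      rw [map_up', Phi_up, Phi_up, sg_xG φ hr h]) (fun t => by
      show sg φ (Phi hp K r hr _) = Phi hp K r hr (Matrix.SpecialLinearGroup.map φ _)
      rw [map_lo', Phi_lo, Phi_lo, sg_xG φ hn h']) s

end

/-- the roots of the configuration are fixed -/
theorem rho_tab : (List.finRange 3).all (fun k =>
    (refl chevE6 (wd (l := 6) [2, 4] [0, 5, 2, 4] k) (chevE6.simple 3) < chevE6.nroots) &&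
    TwistedE6Sigma.rho (refl chevE6 (wd (l := 6) [2, 4] [0, 5, 2, 4] k) (chevE6.simple 3)) ==
      refl chevE6 (wd (l := 6) [2, 4] [0, 5, 2, 4] k) (chevE6.simple 3) &&
    TwistedE6Sigma.rho (chevE6.neg (refl chevE6 (wd (l := 6) [2, 4] [0, 5, 2, 4] k) (chevE6.simple 3))) ==
      chevE6.neg (refl chevE6 (wd (l := 6) [2, 4] [0, 5, 2, 4] k) (chevE6.simple 3))) = true := by decide +kernel

section Main

variable {K : Type} [Field K] [Fintype K] {q : ℕ} {φ : K →+* K}

theorem mem_twisted (hφ : ∀ t, φ t = t ^ q) (hφφ : ∀ t, φ (φ t) = t) {g : GL chevE6.Idx K} :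
    g ∈ twistedE6 K q ↔ g ∈ chevE6.group K ∧ sg φ g = g := by
  rw [← H91.E6Fix.group_inf_fix hφ hφφ]
  exact Iff.rfl

theorem nn_mem (hφ : ∀ t, φ t = t ^ q) (hφφ : ∀ t, φ (φ t) = t) (i : Fin 6)
    (h1 : TwistedE6Sigma.rho (chevE6.simple i) = chevE6.simple i)
    (h2 : TwistedE6Sigma.rho (chevE6.neg (chevE6.simple i)) = chevE6.neg (chevE6.simple i)) :
    Cfsg.Agent.Nodes.RGDChev.nn hp K i ∈ twistedE6 K q := by
  rw [mem_twisted hφ hφφ]
  refine ⟨nn_mem_group hp i, ?_⟩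
  have hr := simple_lt hp.inList (lt_rank hp i)
  show sg φ (nG hp.inList (chevE6.simple i) 1) = nG hp.inList (chevE6.simple i) 1
  rw [nG_def, map_mul, map_mul, sg_xG φ hr h1, sg_xG φ (neg_lt hp.inList hr) h2, map_neg, map_inv₀, map_one]

/-- **The configuration in `²E₆(q)`.** -/
theorem conf_twE6 (hq : IsPrimePow q) (hK : Fintype.card K = q ^ 2) (ho : Odd q) : D4Conf ↥(twistedE6 K q) := by
  classical
  obtain ⟨φ, hφ, hqq⟩ := TwE6Basic.exists_frob hq hK
  have hφφ : ∀ t, φ (φ t) = t := fun t => by rw [hφ, hφ, hqq]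
  have hfin : Fintype (FF φ) := Fintype.ofFinite _
  have hc : Fintype.card (FF φ) = q := Cfsg.Agent.OddHalf.LongSL.Tw.card_FF hq.two_le hK hφ
  have hoF : Odd (Fintype.card (FF φ)) := by rw [hc]; exact ho
  have hoK : Odd (Fintype.card K) := by rw [hK]; exact ho.pow
  have h1 := (Bool.and_eq_true _ _).mp chk_E6
  have h2 := (Bool.and_eq_true _ _).mp chkE_E6
  have h3 := tab_E6
  simp only [tab, Bool.and_eq_true, beq_iff_eq, List.all_eq_true, List.mem_finRange, forall_const, Bool.or_eq_true] at h3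
  obtain ⟨⟨h3, h4⟩, h5⟩ := h3
  have h6 := rho_tab
  simp only [Bool.and_eq_true, beq_iff_eq, List.all_eq_true, List.mem_finRange, forall_const, decide_eq_true_eq] at h6
  obtain ⟨b, hb⟩ : ∃ b : Fin 3 → ℕ, ∀ k, refl chevE6 (wd (l := 6) [2, 4] [0, 5, 2, 4] k)
      (chevE6.simple ((3 : Fin 6) : ℕ)) = b k := ⟨_, fun _ => rfl⟩
  have hb0 : b 0 = chevE6.simple ((3 : Fin 6) : ℕ) := (hb 0).symm
  have h4' : ∀ k k', k ≠ k' → chkComm chevE6 (b k) (b k') = true := by
    intro k k' hkk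
    rw [← hb, ← hb]
    exact (h4 k k').resolve_left hkk
  have h5' : ∀ k, chevE6.cartan ((1 : Fin 6) : ℕ) (b k) = -1 ∧ chevE6.cartan ((1 : Fin 6) : ℕ) (chevE6.neg (b k)) = 1 := by
    intro k
    rw [← hb]
    exact h5 k
  have h6' : ∀ k, TwistedE6Sigma.rho (b k) = b k ∧ TwistedE6Sigma.rho (chevE6.neg (b k)) = chevE6.neg (b k) := by
    intro k
    rw [← hb]
    exact ⟨(h6 k).1.2, (h6 k).2⟩
  have hr0 := simple_lt hp.inList (lt_rank hp 3)
  have hrt := simple_lt hp.inList (lt_rank hp 1)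
  have hbig0 := big_simple hp K hoK 3 h1.1 h1.2 h2.1 h2.2
  have hex : ∀ k, ∃ (hr : b k < chevE6.nroots) (n : GL chevE6.Idx K), n ∈ chevE6.group K ∧
      Cj (Phi hp K (chevE6.simple ((3 : Fin 6) : ℕ)) hr0) (Phi hp K (b k) hr) n := by
    intro k
    obtain ⟨hr', n, hn, hc⟩ := exists_cj hp K (wd (l := 6) [2, 4] [0, 5, 2, 4] k) hr0
    have e := hb k
    generalize refl chevE6 (wd (l := 6) [2, 4] [0, 5, 2, 4] k) (chevE6.simple ((3 : Fin 6) : ℕ)) = r' at e hr' hc
    subst e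
    exact ⟨hr', n, hn, hc⟩
  choose hr n hn hcj using hex
  have hbig : ∀ k, Big (chevE6.group K) (Phi hp K (b k) (hr k)) := fun k =>
    hbig0.conj hoK (Phi_mem hp K _ _) (hn k) (hcj k)
  have hrho : ∀ i : Fin 6, i ∈ ([1, 3] : List (Fin 6)) → TwistedE6Sigma.rho (chevE6.simple i) = chevE6.simple i ∧
      TwistedE6Sigma.rho (chevE6.neg (chevE6.simple i)) = chevE6.neg (chevE6.simple i) := by decide +kernel
  obtain ⟨m, hm, hmt⟩ : ∃ m ∈ twistedE6 K q, m * Phi hp K (chevE6.simple ((1 : Fin 6) : ℕ)) hrt (-1) * m⁻¹ =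
      Phi hp K (chevE6.simple ((3 : Fin 6) : ℕ)) hr0 (-1) := by
    obtain ⟨hr', m, hm, hc⟩ := exists_cj' hp K (twistedE6 K q) [1, 3]
      (fun i hi => nn_mem hφ hφφ i (hrho i hi).1 (hrho i hi).2) hrt
    generalize refl chevE6 ([1, 3] : List (Fin 6)) (chevE6.simple ((1 : Fin 6) : ℕ)) = r' at h3 hr' hc
    subst h3
    have h5 := hc.symm.neg_one hoK hbig0.inj
    exact ⟨m, hm, by rw [← h5]; group⟩
  have hfin : Finite (GL chevE6.Idx K) := inferInstance
  have hsg : ∀ k s, sg φ (Phi hp K (b k) (hr k) s) = Phi hp K (b k) (hr k) (Matrix.SpecialLinearGroup.map φ s) :=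
    fun k s => sg_Phi φ (hr k) (h6' k).1 (h6' k).2 s
  have hpsi : ∀ k s, sg φ (psi φ (b k) (hr k) s) = psi φ (b k) (hr k) s := by
    intro k s
    show sg φ (Phi hp K (b k) (hr k) _) = _
    rw [hsg, map_map_FF]
    rfl
  refine conf_of_sub hoF (twistedE6 K q) (fun k => psi φ (b k) (hr k))
    (fun k => (hbig k).inj.comp (map_injective φ)) (fun k s => ?_)
    (Phi hp K (chevE6.simple ((1 : Fin 6) : ℕ)) hrt (-1)) ?_ ?_ ?_
    (fun k k' hkk s s' => commute_Phi hp K (hr k) (hr k') (h4' k k' hkk) _ _) ?_ m hm ?_ ?_ ?_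
  · rw [mem_twisted hφ hφφ]
    exact ⟨Phi_mem hp K (b k) (hr k) _, hpsi k s⟩
  · rw [mem_twisted hφ hφφ]
    refine ⟨Phi_mem hp K _ hrt _, ?_⟩
    rw [sg_Phi φ hrt (hrho 1 (by simp)).1 (hrho 1 (by simp)).2, ← map_neg_one φ, map_map_FF]
  · rw [← map_mul, neg_one_mul, _root_.neg_neg, map_one]
  · intro k c hc hcc s
    simp only [psi_neg_one] at hcc
    obtain ⟨hc1, hc2⟩ := (mem_twisted hφ hφφ).1 hc
    obtain ⟨s', hs'⟩ := (hbig k).norm c hc1 hcc (Matrix.SpecialLinearGroup.map (FF φ).subtype s)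
    have h7 : Phi hp K (b k) (hr k) (Matrix.SpecialLinearGroup.map φ s') = Phi hp K (b k) (hr k) s' := by
      rw [← hsg, ← hs', map_mul, map_mul, map_inv, hc2, hsg, map_map_FF]
    obtain ⟨s2, hs2⟩ := exists_map φ ((hbig k).inj h7)
    refine ⟨s2, ?_⟩
    show c * Phi hp K (b k) (hr k) _ * c⁻¹ = Phi hp K (b k) (hr k) _
    rw [hs', hs2]
  · intro k k' hkk
    simp only [psi_neg_one]
    exact (hbig k).ne hoK (mul_mem (hn k') (inv_mem (hn k))) ((hcj k).symm.trans (hcj k'))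
      (fun s s' => commute_Phi hp K (hr k) (hr k') (h4' k k' hkk) s s')
  · rw [hmt, psi_neg_one]
    congr 1
    simp only [hb0]
  · intro k c
    rw [psi_up, psi_up, Phi_simple_neg_one, conj_hG hp K 1 (hr k) (-1) (neg_ne_zero.2 one_ne_zero),
      odd_zpow K (Or.inr (h5' k).1), neg_one_mul]
    rfl
  · intro k c
    rw [psi_lo, psi_lo, Phi_simple_neg_one, conj_hG hp K 1 (neg_lt hp.inList (hr k)) (-1)
      (neg_ne_zero.2 one_ne_zero), odd_zpow K (Or.inl (h5' k).2), neg_one_mul]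
    rfl

end Main

end Cfsg.Agent.H808.D4.TwE
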