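import Mathlib
import Cfsg.Agent.H808.D4.TwE
import Cfsg.Agent.H755.PF.DFourFin

/-!
# S5173: the exceptional groups `F₄`, `E₆`, `E₇`, `E₈`, `²E₆` of odd characteristic do not have the 2-fusion of
`PSL_n(q)`, `n ≥ 6` (helper808)

* `D4Conf.map`, `D4Conf.transport` : the configuration passes through isomorphisms of groups and of 2-fusion systems;
* `hexc`, `htw` : the hypotheses of `H751/Big/Asm.lean`.
-/

set_option autoImplicit false

namespace Cfsg.Agent.H808.D4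

open Subgroup Cfsg Cfsg.Agent.H751.Big

universe u

section Map

variable {G H : Type*} [Group G] [Group H]

theorem good_map (e : G ≃* H) {Q : Subgroup G} {z : G} (h : Good Q z) : Good (Q.map e.toMonoidHom) (e z) := by
  have hc : ∀ x : G, x ∈ centralizer ({z} : Set G) ↔ e x ∈ centralizer ({e z} : Set H) := by
    intro x
    rw [mem_centralizer_singleton_iff, mem_centralizer_singleton_iff, ← map_mul, ← map_mul, e.injective.eq_iff]
  refine ⟨?_, ⟨z, h.mem, rfl⟩, ?_, ?_, ?_⟩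
  · obtain ⟨n, ⟨f⟩⟩ := h.quat
    exact ⟨n, ⟨(Q.equivMapOfInjective e.toMonoidHom e.injective).symm.trans f⟩⟩
  · rw [MulEquiv.orderOf_eq]
    exact h.ord
  · rintro _ ⟨x, hx, rfl⟩
    exact (hc x).1 (h.le hx)
  · rintro P hP hQP hPz _ ⟨x, hx, rfl⟩ c hc' hcx
    obtain ⟨c, rfl⟩ := e.surjective c
    have h1 : IsPGroup 2 (P.comap e.toMonoidHom) := hP.comap_of_injective _ e.injective
    have h2 := h.closed (P.comap e.toMonoidHom) h1 (fun y hy => hQP ⟨y, hy, rfl⟩) (fun y hy => (hc y).2 (hPz hy)) x hx c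
      ((hc c).2 hc') (by
        show e (c * x * c⁻¹) ∈ P
        rw [map_mul, map_mul, map_inv]
        exact hcx)
    exact ⟨_, h2, by
      show e (c * x * c⁻¹) = e c * e x * (e c)⁻¹
      rw [map_mul, map_mul, map_inv]⟩

theorem D4Conf.map (e : G ≃* H) (h : D4Conf G) : D4Conf H := by
  obtain ⟨Q, z, t, P, h1, h2, h3, h4, h5, h6, h7, h8, h9⟩ := h
  refine ⟨fun i => (Q i).map e.toMonoidHom, fun i => e (z i), e t, P.map e.toMonoidHom, h1.map _,
    fun i => map_mono (h2 i), ⟨t, h3, rfl⟩, fun i => good_map e (h4 i), ?_, ?_, ?_, ?_, ?_⟩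
  · rintro i j hij _ ⟨x, hx, rfl⟩ _ ⟨y, hy, rfl⟩
    show e x * e y = e y * e x
    rw [← map_mul, h5 i j hij x hx y hy, map_mul]
  · intro i j hij h
    exact h6 i j hij (e.injective h)
  · obtain ⟨c, hc⟩ := isConj_iff.1 h7
    exact isConj_iff.2 ⟨e c, by
      show e c * e t * (e c)⁻¹ = e (z 0)
      rw [← hc, map_mul, map_mul, map_inv]⟩
  · rintro i _ ⟨x, hx, rfl⟩
    exact ⟨_, h8 i x hx, by
      show e (t * x * t⁻¹) = e t * e x * (e t)⁻¹
      rw [map_mul, map_mul, map_inv]⟩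
  · intro i
    obtain ⟨x, hx, hxt⟩ := h9 i
    refine ⟨e x, ⟨x, hx, rfl⟩, fun h => hxt (e.injective ?_)⟩
    rw [map_mul, map_mul, h]

end Map

section Transport

variable {G H : Type*} [Group G] [Group H] [Finite G] [Finite H] {S : Sylow 2 G} {T : Sylow 2 H}
  {φ : (S : Subgroup G) ≃* (T : Subgroup H)}

/-- The configuration passes through an isomorphism of fusion systems. -/
theorem D4Conf.transport (h : D4Conf G) (hφ : SameFus (S : Subgroup G) (T : Subgroup H) φ) :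
    ∃ (Q : Fin 3 → Subgroup H) (z : Fin 3 → H) (t : H),
      (∀ i, Good (Q i) (z i)) ∧ (∀ i j, i ≠ j → ∀ x ∈ Q i, ∀ y ∈ Q j, x * y = y * x) ∧
      (∀ i j, i ≠ j → z i ≠ z j) ∧ IsConj t (z 0) ∧ (∀ i, ∀ x ∈ Q i, t * x * t⁻¹ ∈ Q i) ∧
      ∀ i, ∃ x ∈ Q i, t * x ≠ x * t := by
  obtain ⟨Q, z, t, P, h1, h2, h3, h4, h5, h6, h7, h8, h9⟩ := h
  obtain ⟨g, hg⟩ := exists_conj_le S h1
  let Q' : Fin 3 → Subgroup G := fun i => (Q i).map (MulAut.conj g).toMonoidHom
  have hQ' : ∀ i, Q' i ≤ (S : Subgroup G) := by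
    rintro i _ ⟨x, hx, rfl⟩
    exact hg x (h2 i hx)
  let z' : Fin 3 → (S : Subgroup G) := fun i => ⟨g * z i * g⁻¹, hg _ (h2 i (h4 i).mem)⟩
  let t' : (S : Subgroup G) := ⟨g * t * g⁻¹, hg t h3⟩
  have hmem : ∀ i (x : G), x ∈ Q i → (g * x * g⁻¹) ∈ Q' i := fun i x hx => ⟨x, hx, rfl⟩
  refine ⟨fun i => img φ (Q' i), fun i => (φ (z' i) : H), (φ t' : H), fun i => hφ.good (hQ' i) ((h4 i).conj g), ?_, ?_,
    ?_, ?_, ?_⟩
  · intro i j hij x hx y hy
    obtain ⟨x, ⟨x0, hx0, hx1⟩, rfl⟩ := mem_img.1 hx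
    obtain ⟨y, ⟨y0, hy0, hy1⟩, rfl⟩ := mem_img.1 hy
    have hx1' : g * x0 * g⁻¹ = (x : G) := hx1
    have hy1' : g * y0 * g⁻¹ = (y : G) := hy1
    have h10 : x * y = y * x := by
      apply Subtype.ext
      show (x : G) * y = y * x
      rw [← hx1', ← hy1']
      calc g * x0 * g⁻¹ * (g * y0 * g⁻¹) = g * (x0 * y0) * g⁻¹ := by group
        _ = g * (y0 * x0) * g⁻¹ := by rw [h5 i j hij x0 hx0 y0 hy0]
        _ = g * y0 * g⁻¹ * (g * x0 * g⁻¹) := by group
    have := congrArg (fun u => ((φ u : (T : Subgroup H)) : H)) h10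
    simpa using this
  · intro i j hij h
    have h10 : z' i = z' j := φ.injective (Subtype.ext h)
    have h11 : g * z i * g⁻¹ = g * z j * g⁻¹ := congrArg Subtype.val h10
    exact h6 i j hij (mul_left_cancel (mul_right_cancel h11))
  · obtain ⟨c, hc⟩ := isConj_iff.1 h7
    obtain ⟨k, hk⟩ := (hφ.one t' (z' 0)).1 ⟨g * c * g⁻¹, by
      show g * z 0 * g⁻¹ = g * c * g⁻¹ * (g * t * g⁻¹) * (g * c * g⁻¹)⁻¹
      rw [← hc]
      group⟩
    exact isConj_iff.2 ⟨k, hk.symm⟩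
  · intro i x hx
    obtain ⟨x, ⟨x0, hx0, hx1⟩, rfl⟩ := mem_img.1 hx
    have hx1' : g * x0 * g⁻¹ = (x : G) := hx1
    have h10 : (φ t' : H) * φ x * (φ t' : H)⁻¹ = φ (t' * x * t'⁻¹) := by
      rw [map_mul, map_mul, map_inv]
      rfl
    rw [h10]
    apply apply_mem_img.2
    show g * t * g⁻¹ * x * (g * t * g⁻¹)⁻¹ ∈ Q' i
    rw [← hx1']
    have h11 : g * t * g⁻¹ * (g * x0 * g⁻¹) * (g * t * g⁻¹)⁻¹ = g * (t * x0 * t⁻¹) * g⁻¹ := by group
    rw [h11]
    exact hmem i _ (h8 i x0 hx0)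
  · intro i
    obtain ⟨x, hx, hxt⟩ := h9 i
    let x' : (S : Subgroup G) := ⟨g * x * g⁻¹, hg _ (h2 i hx)⟩
    refine ⟨(φ x' : H), apply_mem_img.2 (hmem i x hx), ?_⟩
    intro h10
    have h11 : t' * x' = x' * t' := by
      apply φ.injective
      rw [map_mul, map_mul]
      exact Subtype.ext h10
    have h12 : g * t * g⁻¹ * (g * x * g⁻¹) = g * x * g⁻¹ * (g * t * g⁻¹) := congrArg Subtype.val h11
    apply hxt
    calc t * x = g⁻¹ * (g * t * g⁻¹ * (g * x * g⁻¹)) * g := by group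
      _ = g⁻¹ * (g * x * g⁻¹ * (g * t * g⁻¹)) * g := by rw [h12]
      _ = x * t := by group

end Transport

section Final

variable {G : Type*} [Group G] [Finite G] {n : ℕ} {F : Type u} [Field F] [Fintype F]

/-- A group with the configuration does not have the 2-fusion of `PSL_n(F)`, `n ≥ 6`, `|F|` odd. -/
theorem D4Conf.false (hF : H269.FooteStmt.{u}) (h : D4Conf G) (hn : 6 ≤ n) (hq : Odd (Fintype.card F)) {S : Sylow 2 G}
    {T : Sylow 2 (Matrix.ProjectiveSpecialLinearGroup (Fin n) F)}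
    {φ : (S : Subgroup G) ≃* (T : Subgroup (Matrix.ProjectiveSpecialLinearGroup (Fin n) F))}
    (hφ : SameFus (S : Subgroup G) (T : Subgroup (Matrix.ProjectiveSpecialLinearGroup (Fin n) F)) φ) : False := by
  have : Finite (Matrix.SpecialLinearGroup (Fin n) F) := Subtype.finite
  have : Finite (Matrix.ProjectiveSpecialLinearGroup (Fin n) F) := inferInstanceAs (Finite (_ ⧸ _))
  obtain ⟨Q, z, t, h1, h2, h3, h4, h5, h6⟩ := h.transport hφ
  exact H755.PF.no_d4 hF hn (two_ne hq) h1 h2 h3 h4 h5 h6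

/-- **`F₄`, `E₆`, `E₇`, `E₈`.** -/
theorem hexc (hF : H269.FooteStmt.{u}) (S : Sylow 2 G) (hn : 6 ≤ n) (hq : Odd (Fintype.card F))
    (T : Sylow 2 (Matrix.ProjectiveSpecialLinearGroup (Fin n) F))
    (φ : (S : Subgroup G) ≃* (T : Subgroup (Matrix.ProjectiveSpecialLinearGroup (Fin n) F)))
    (hφ : SameFus (S : Subgroup G) (T : Subgroup (Matrix.ProjectiveSpecialLinearGroup (Fin n) F)) φ)
    (K : Type) [Field K] [Fintype K] (hK : Odd (Fintype.card K))
    (h : Nonempty (G ≃* Lie.chevF4.group K) ∨ Nonempty (G ≃* Lie.chevE6.group K) ∨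
      Nonempty (G ≃* Lie.chevE7.group K) ∨ Nonempty (G ≃* Lie.chevE8.group K)) : False := by
  have hD : D4Conf G := by
    rcases h with ⟨⟨e⟩⟩ | ⟨⟨e⟩⟩ | ⟨⟨e⟩⟩ | ⟨⟨e⟩⟩
    · exact (conf_F4 K hK).map e.symm
    · exact (conf_E6 K hK).map e.symm
    · exact (conf_E7 K hK).map e.symm
    · exact (conf_E8 K hK).map e.symm
  exact hD.false hF hn hq hφ

/-- **`²E₆`.** -/
theorem htw (hF : H269.FooteStmt.{u}) (S : Sylow 2 G) (hn : 6 ≤ n) (hq : Odd (Fintype.card F))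
    (T : Sylow 2 (Matrix.ProjectiveSpecialLinearGroup (Fin n) F))
    (φ : (S : Subgroup G) ≃* (T : Subgroup (Matrix.ProjectiveSpecialLinearGroup (Fin n) F)))
    (hφ : SameFus (S : Subgroup G) (T : Subgroup (Matrix.ProjectiveSpecialLinearGroup (Fin n) F)) φ)
    (K : Type) [Field K] [Fintype K] (r : ℕ) (hr : IsPrimePow r) (ho : Odd r) (hK : Fintype.card K = r ^ 2)
    (h : Nonempty (G ≃* Lie.twistedE6 K r)) : False := by
  obtain ⟨e⟩ := h
  exact ((TwE.conf_twE6 hr hK ho).map e.symm).false hF hn hq hφ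

end Final

end Cfsg.Agent.H808.D4
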